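import Groth.Agent.ArtinAtlas.Neutral
import Groth.Agent.HenselChart.Lift
import Groth.Agent.AlgStLib.PointsBasic

/-!
# Lifting points of smooth charts and comparing isomorphisms with natural isomorphisms
-/

set_option autoImplicit false
set_option backward.isDefEq.respectTransparency false
set_option backward.isDefEq.respectTransparency.types false
set_option linter.style.haveILetI false
universe v₂ u₂ u

noncomputable section

namespace Groth.Agent.RatChart

open CategoryTheory CategoryTheory.Limits AlgebraicGeometry Opposite Groth.Agent.AlgSpLib Groth.Agent.ArtinAtlas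
  Groth.Agent.AlgStLib Groth.Agent.FibCatRep
open _root_.AlgSp _root_.AlgSt

variable {S : Scheme.{u}} {𝒳 : BasedCategory.{v₂, u₂} (Over S)}

theorem repByAlgSp1_chart {𝒵 : AlgSt.Cat S} (h𝒵 : IsAlgStack Scheme.fppfPrecoverage 𝒵) (V : Over S)
    (c : FibCat.overCat V ⥤ᵇ 𝒵) : RepByAlgSp1 c :=
  (repByAlgSp1_overCat_iff V c).2
    (repByAlgSp1_point h𝒵.isStack.1 h𝒵.diag ((isAlgSpaceP_obj_iff _).2 (IsAlgSpace.yon_obj V)) _)

/-- an isomorphism over the identity is a natural isomorphism -/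
theorem nonempty_iso_of_hom2 {𝒵 : AlgSt.Cat S} (h𝒵 : FibCat.IsFibGrpd 𝒵.p) {T Z : Over S}
    {c : FibCat.overCat Z ⥤ᵇ 𝒵} {z : FibCat.overCat T ⥤ᵇ 𝒵} {g : T ⟶ Z} (θ : Hom2 c z g (𝟙 T)) :
    Nonempty (BasedFunctor.comp (AlgSt.overMap g) c ≅ z) :=
  nonempty_iso_of_top h𝒵 _ _ (θ.cast (Category.id_comp g).symm rfl).hom
    ((θ.cast (Category.id_comp g).symm rfl).map.trans rfl)

/-- points over quotients of henselian local rings lift along smooth charts -/
theorem exists_hom2_lift (hX : FibCat.IsFibGrpd 𝒳.p) {Z : Over S} {c : FibCat.overCat Z ⥤ᵇ 𝒳}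
    (hc : RepByAlgSpWith (LocP @Smooth) c) (R : Type u) [CommRing R] [HenselianLocalRing R]
    (str : Spec (CommRingCat.of R) ⟶ S) (a : Ideal R) (ha : a ≠ ⊤) {z : FibCat.overCat (Over.mk str) ⥤ᵇ 𝒳}
    {g₀ : Over.mk (Spec.map (CommRingCat.ofHom (Ideal.Quotient.mk a)) ≫ str) ⟶ Z}
    (θ₀ : Hom2 c z g₀ (Over.homMk (Spec.map (CommRingCat.ofHom (Ideal.Quotient.mk a))) rfl :
      Over.mk (Spec.map (CommRingCat.ofHom (Ideal.Quotient.mk a)) ≫ str) ⟶ Over.mk str)) :
    ∃ g : Over.mk str ⟶ Z, Nonempty (Hom2 c z g (𝟙 (Over.mk str))) := by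
  haveI := respectsIso_locP (S := S) @Smooth
  obtain ⟨D, hD⟩ := exists_pairSp hX z (AlgStLib.repByAlgSp1_of_with hc)
  have hsm : LocP @Smooth D.pr₁ := hD _ inferInstance hc
  obtain ⟨p₀, hp₀, -⟩ := D.existsUnique (θ₀.inv hX)
  obtain ⟨y₀, rfl⟩ := sec_surjective p₀
  obtain ⟨y, hy, -⟩ := HenselChart.exists_lift R str D.isAlgSpace D.pr₁
    (fun W p h hp e => hsm p (𝟙 _) h hp repWith_id' (e.trans (Category.comp_id _).symm)) a ha y₀
    (sec_injective (by
      rw [sec_map]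
      exact (ULift.ext _ _ ((D.pr₁_eq hp₀).trans (Category.id_comp _).symm) :
        _ = (sec ((yon S).map (Over.homMk (Spec.map (CommRingCat.ofHom (Ideal.Quotient.mk a))) rfl :
          Over.mk (Spec.map (CommRingCat.ofHom (Ideal.Quotient.mk a)) ≫ str) ⟶ Over.mk str)) : ULift.{u + 1} _))))
  obtain ⟨a', b, θ, hθ⟩ := D.exists_cl (sec y)
  obtain rfl : a' = 𝟙 (Over.mk str) := by
    rw [← D.pr₁_eq hθ]
    show (sec (y ≫ D.pr₁) : ULift.{u + 1} (Over.mk str ⟶ Over.mk str)).down = _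
    rw [hy]
    rfl
  exact ⟨b, ⟨θ.inv hX⟩⟩

end Groth.Agent.RatChart

end
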