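import Groth.Agent.RatChart.Galois
import Groth.Agent.RatChart.Lifts
import Groth.Agent.ArtinAtlas.Descend
import Groth.Agent.ArtinAtlas.Saturate
import Groth.Agent.HenselChart.Family

/-!
# Field points of stacks form a small set of isomorphism classes
-/

set_option autoImplicit false
set_option backward.isDefEq.respectTransparency false
set_option backward.isDefEq.respectTransparency.types false
set_option linter.style.haveILetI false
universe v₂ u₂ u

noncomputable section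

namespace Groth.Agent.RatChart

open CategoryTheory CategoryTheory.Limits AlgebraicGeometry Opposite Groth.Agent.AlgSpLib Groth.Agent.ArtinAtlas
open _root_.AlgSp _root_.AlgSt

variable {S : Scheme.{u}} {𝒳 : BasedCategory.{v₂, u₂} (Over S)}

/-- isomorphism classes of field points are indexed by a small type -/
theorem exists_small_classes (hS : Stk.IsStack (QuotSh.J Scheme.fppfPrecoverage S) 𝒳)
    (hrep : ∀ (V : Over S) (c : FibCat.overCat V ⥤ᵇ 𝒳), RepByAlgSp1 c) (hat : HasAtlas (LocP @Smooth) 𝒳)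
    (k : Type u) [Field k] (str : Spec (CommRingCat.of k) ⟶ S) :
    ∃ (ι : Type u) (zs : ι → (FibCat.overCat (Over.mk str) ⥤ᵇ 𝒳)), ∀ z : FibCat.overCat (Over.mk str) ⥤ᵇ 𝒳,
      ∃ i, Nonempty (Hom2 (zs i) z (𝟙 (Over.mk str)) (𝟙 (Over.mk str))) := by
  classical
  have hX := hS.1
  obtain ⟨U, x, hx, hxs⟩ := hat
  obtain ⟨Dx, -⟩ := exists_pairSp hX x (AlgStLib.repByAlgSp1_of_with hx)
  let T : Over S := Over.mk str
  let KL : IntermediateField k (SeparableClosure k) → Over S := fun L =>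
    Over.mk (Spec.map (CommRingCat.ofHom (algebraMap k L)) ≫ str)
  let kL : ∀ L, KL L ⟶ T := fun L => Over.homMk (Spec.map (CommRingCat.ofHom (algebraMap k L))) rfl
  let γ : ∀ L : IntermediateField k (SeparableClosure k), (L ≃ₐ[k] L) → (KL L ⟶ KL L) := fun L g =>
    Over.homMk (Spec.map (CommRingCat.ofHom g.toRingEquiv.toRingHom)) (by
      show Spec.map _ ≫ Spec.map _ ≫ str = Spec.map _ ≫ str
      rw [← Category.assoc, ← Spec.map_comp]
      congr 2
      exact CommRingCat.hom_ext (RingHom.ext fun c => g.commutes c))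
  have hγ : ∀ L g, γ L g ≫ kL L = kL L := fun L g => Over.OverMorphism.ext (by
    show Spec.map _ ≫ Spec.map _ = _
    rw [← Spec.map_comp]
    congr 1
    exact CommRingCat.hom_ext (RingHom.ext fun c => g.commutes c))
  choose ιD xD hxD using fun L : IntermediateField k (SeparableClosure k) =>
    HenselChart.exists_small_points Dx.isAlgSpace L (Spec.map (CommRingCat.ofHom (algebraMap k L)) ≫ str)
  let Idx : Type u := Σ L : IntermediateField k (SeparableClosure k), (KL L ⟶ U) × ((L ≃ₐ[k] L) → ιD L)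
  let Rel : Idx → (FibCat.overCat T ⥤ᵇ 𝒳) → Prop := fun i z =>
    FiniteDimensional k i.1 ∧ IsGalois k i.1 ∧ ∃ ψ : Hom2 z x (kL i.1) i.2.1, ∀ g,
      ∃ ψg : Hom2 z x (kL i.1) (γ i.1 g ≫ i.2.1), Hom2.Res (γ i.1 g) ψ ψg ∧
        Dx.Cl (sec (xD i.1 (i.2.2 g))) ((ψ.inv hX).comp ψg)
  refine ⟨{i : Idx // ∃ z, Rel i z}, fun i => i.2.choose, fun z => ?_⟩
  obtain ⟨L, hfd, hgal, t, ⟨ψ⟩⟩ := exists_galois_point_ks hX hx hxs k str z
  choose ψg hψg using fun g : L ≃ₐ[k] L =>
    (Hom2.exists_res hX ψ (γ L g) (kL L) (γ L g ≫ t) (hγ L g) rfl).exists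
  choose p hp using fun g => (Dx.existsUnique ((ψ.inv hX).comp (ψg g))).exists
  choose pl hpl using fun g => sec_surjective (p g)
  choose ig hig using fun g => hxD L (pl g)
  have hz : Rel ⟨L, t, ig⟩ z := ⟨hfd, hgal, ψ, fun g => ⟨ψg g, hψg g, by rw [hig, hpl]; exact hp g⟩⟩
  refine ⟨⟨⟨L, t, ig⟩, z, hz⟩, ?_⟩
  generalize hex : (⟨z, hz⟩ : ∃ z', Rel ⟨L, t, ig⟩ z') = ex
  show Nonempty (Hom2 ex.choose z (𝟙 T) (𝟙 T))
  obtain ⟨-, -, ψ', hψ'⟩ := ex.choose_spec
  haveI := hfd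
  haveI := hgal
  let χ : Hom2 ex.choose z (kL L) (kL L) := ψ'.comp (ψ.inv hX)
  have hχ : ∀ g, Hom2.Res (γ L g) χ χ := fun g => by
    obtain ⟨ψg', h1, h2⟩ := hψ' g
    rw [hig, hpl] at h2
    have e : (ψ'.inv hX).comp ψg' = (ψ.inv hX).comp (ψg g) :=
      ((Hom2.res_id _).unique hX (Dx.unique h2 (hp g)))
    have e' : ψg'.comp ((ψg g).inv hX) = χ := by
      have e3 : ψg' = (ψ'.comp (ψ.inv hX)).comp (ψg g) := by
        rw [Hom2.comp_assoc, ← e, ← Hom2.comp_assoc, Hom2.comp_inv, Hom2.refl_comp]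
      rw [e3, Hom2.comp_assoc, Hom2.comp_inv, Hom2.comp_refl]
    have := Hom2.res_comp h1 (Hom2.res_inv hX (hψg g))
    rwa [e'] at this
  obtain ⟨D, -⟩ := exists_pairSp hX ex.choose (hrep T z)
  let ρ : (L ≃ₐ[k] L) →* Aut (Spec (CommRingCat.of L)) := autOf (fun g => (γ L g).left)
    (by show Spec.map _ = _; rw [← Spec.map_id]; rfl)
    (fun g h => by show Spec.map _ ≫ Spec.map _ = Spec.map _; rw [← Spec.map_comp]; rfl)
  obtain ⟨hq, hfree⟩ := isQuot_galois k L ρ fun g => rfl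
  obtain ⟨T₂, pr₁, pr₂, inc, sq, hi₁, hi₂, hio, hicov, -, -⟩ := exists_graphs (kL L) (γ L) ρ
    (fun g => by rw [autOf_hom, inv_inv]) hq hfree
  have : Etale (kL L).left := QuotScheme.etaleHom_of_free hq hfree
  haveI : Flat (kL L).left := inferInstance
  haveI : LocallyOfFinitePresentation (kL L).left := inferInstance
  haveI : Surjective (kL L).left := ⟨QuotScheme.surjective hq⟩
  obtain ⟨θ, -, -⟩ := exists_desc_hom2 hS (kL L) sq χ (a₀ := 𝟙 T) (b₀ := 𝟙 T) (Category.comp_id _)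
    (Category.comp_id _) fun {a' b'} ψ₁ ψ₂ r₁ r₂ => hom2_ext_cover hX D inc hio hicov fun g =>
      ⟨_, _, χ, r₁.of_comp hX (by rw [hi₁]; exact Hom2.res_id χ), r₂.of_comp hX (by rw [hi₂]; exact hχ g)⟩
  exact ⟨θ⟩

end Groth.Agent.RatChart

end
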