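import Groth.Agent.RatChart.Prod
import Groth.Agent.AlgSpLib.Atlas
import Groth.Agent.ArtinAtlas.Setup

/-!
# The common refinement of the translates of an affine chart under a finite group
-/

set_option autoImplicit false
set_option backward.isDefEq.respectTransparency false
set_option backward.isDefEq.respectTransparency.types false
set_option linter.style.haveILetI false
universe u

noncomputable section

namespace Groth.Agent.RatChart

open CategoryTheory CategoryTheory.Limits AlgebraicGeometry Opposite Groth.Agent.AlgSpLib Groth.Agent.ArtinAtlas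
open _root_.AlgSp

variable {S : Scheme.{u}} {X : Sp S}

/-- the fibre product of finitely many affine charts over a base chart -/
theorem exists_wide_chart (hX : IsAlgSpace X) {C₀ C : Over S} [IsAffine C.left] (c₀ : (yon S).obj C₀ ⟶ X)
    (hc₀ : RepWith @Etale c₀) {J : Type u} [Finite J] (c : J → ((yon S).obj C ⟶ X))
    (hc : ∀ j, RepWith @Etale (c j)) :
    ∃ (W : Over S) (e : W ⟶ C₀) (l : J → (W ⟶ C)), Etale e.left ∧ IsSeparated e.left ∧
      (∀ j, (yon S).map (l j) ≫ c j = (yon S).map e ≫ c₀) ∧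
      ∀ {T : Over S} (b : T ⟶ C₀) (f : J → (T ⟶ C)), (∀ j, (yon S).map (f j) ≫ c j = (yon S).map b ≫ c₀) →
        ∃! m : T ⟶ W, m ≫ e = b ∧ ∀ j, m ≫ l j = f j := by
  revert c
  refine Finite.induction_empty_option (P := fun J => ∀ c : J → ((yon S).obj C ⟶ X), (∀ j, RepWith @Etale (c j)) →
    ∃ (W : Over S) (e : W ⟶ C₀) (l : J → (W ⟶ C)), Etale e.left ∧ IsSeparated e.left ∧
      (∀ j, (yon S).map (l j) ≫ c j = (yon S).map e ≫ c₀) ∧
      ∀ {T : Over S} (b : T ⟶ C₀) (f : J → (T ⟶ C)), (∀ j, (yon S).map (f j) ≫ c j = (yon S).map b ≫ c₀) →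
        ∃! m : T ⟶ W, m ≫ e = b ∧ ∀ j, m ≫ l j = f j) ?_ ?_ ?_ J
  · intro J' J σ ih c hc
    obtain ⟨W, e, l, he, hes, hw, hu⟩ := ih (fun j => c (σ j)) (fun j => hc _)
    refine ⟨W, e, fun j => l (σ.symm j), he, hes, fun j => ?_, fun b f hf => ?_⟩
    · obtain ⟨i, rfl⟩ := σ.surjective j
      simpa using hw i
    · obtain ⟨m, ⟨hm, hm'⟩, hum⟩ := hu b (fun i => f (σ i)) fun i => hf _
      refine ⟨m, ⟨hm, fun j => by simpa using hm' (σ.symm j)⟩, fun m' h => hum m' ⟨h.1, fun i => ?_⟩⟩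
      simpa using h.2 (σ i)
  · intro c hc
    haveI : IsIso (𝟙 C₀ : C₀ ⟶ C₀).left := inferInstanceAs (IsIso (𝟙 C₀.left))
    refine ⟨C₀, 𝟙 C₀, fun j => j.elim, inferInstance, inferInstance, fun j => j.elim,
      fun b f _ => ⟨b, ⟨Category.comp_id b, fun j => j.elim⟩, fun m h => (Category.comp_id m).symm.trans h.1⟩⟩
  · intro J _ ih c hc
    obtain ⟨W, e, l, he, hes, hw, hu⟩ := ih (fun j => c (some j)) (fun j => hc _)
    obtain ⟨W', d, q, sq, hq⟩ := hX.exists_chart_pullback (hc none) ((yon S).map e ≫ c₀)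
    let pq : W'.left ⟶ pullback W.hom C.hom :=
      pullback.lift q.left d.left ((Over.w q).trans (Over.w d).symm)
    haveI : Mono pq := ⟨fun {Z} u v h => by
      let Z' : Over S := Over.mk (u ≫ W'.hom)
      have hv : v ≫ W'.hom = u ≫ W'.hom := by
        rw [← Over.w q, ← Category.assoc, ← Category.assoc]
        congr 1
        have := congrArg (· ≫ pullback.fst W.hom C.hom) h
        simpa [pq] using this.symm
      let u' : Z' ⟶ W' := Over.homMk u rfl
      let v' : Z' ⟶ W' := Over.homMk v hv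
      have h1 : u' ≫ q = v' ≫ q := Over.OverMorphism.ext (show u ≫ q.left = v ≫ q.left by
        simpa [pq] using congrArg (· ≫ pullback.fst W.hom C.hom) h)
      have h2 : u' ≫ d = v' ≫ d := Over.OverMorphism.ext (show u ≫ d.left = v ≫ d.left by
        simpa [pq] using congrArg (· ≫ pullback.snd W.hom C.hom) h)
      have h3 : u' = v' := (yon S).map_injective (sq.hom_ext
        (((yon S).map_comp u' d).symm.trans ((congrArg (yon S).map h2).trans ((yon S).map_comp v' d)))
        (((yon S).map_comp u' q).symm.trans ((congrArg (yon S).map h1).trans ((yon S).map_comp v' q))))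
      exact congrArg (fun k : Z' ⟶ W' => k.left) h3⟩
    haveI : IsSeparated (C.hom ≫ terminal.from S) := inferInstance
    haveI : IsSeparated C.hom := IsSeparated.of_comp C.hom (terminal.from S)
    haveI : IsSeparated (pullback.fst W.hom C.hom) := MorphismProperty.pullback_fst (P := @IsSeparated) _ _ ‹_›
    haveI : IsSeparated q.left := by
      rw [← pullback.lift_fst q.left d.left ((Over.w q).trans (Over.w d).symm)]
      exact inferInstanceAs (IsSeparated (pq ≫ pullback.fst W.hom C.hom))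
    haveI := he
    haveI := hes
    haveI : Etale q.left := hq
    refine ⟨W', q ≫ e, fun j => match j with
      | none => d
      | some j => q ≫ l j, inferInstanceAs (Etale (q.left ≫ e.left)),
      inferInstanceAs (IsSeparated (q.left ≫ e.left)), ?_, fun {T} b f hf => ?_⟩
    · rintro (_ | j)
      · rw [Functor.map_comp, Category.assoc]
        exact sq.w
      · show (yon S).map (q ≫ l j) ≫ _ = _
        rw [Functor.map_comp, Category.assoc, hw, Functor.map_comp, Category.assoc]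
    · obtain ⟨m, ⟨hm, hm'⟩, hum⟩ := hu b (fun j => f (some j)) fun j => hf _
      obtain ⟨n, hn⟩ := exists_map_eq (sq.lift ((yon S).map (f none)) ((yon S).map m) (by
        rw [hf none, ← hm, Functor.map_comp, Category.assoc]))
      have hn₁ : n ≫ d = f none := (yon S).map_injective (by rw [Functor.map_comp, hn, sq.lift_fst])
      have hn₂ : n ≫ q = m := (yon S).map_injective (by rw [Functor.map_comp, hn, sq.lift_snd])
      refine ⟨n, ⟨by rw [← Category.assoc, hn₂, hm], ?_⟩, ?_⟩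
      · rintro (_ | j)
        · exact hn₁
        · show n ≫ q ≫ l j = _
          rw [← Category.assoc, hn₂, hm']
      · rintro n' ⟨h₁, h₂⟩
        have e₂ : n' ≫ q = m := hum _ ⟨by rw [Category.assoc, h₁], fun j => by rw [Category.assoc]; exact h₂ (some j)⟩
        exact (yon S).map_injective (sq.hom_ext
          (by rw [← Functor.map_comp, ← Functor.map_comp, h₂ none, hn₁])
          (by rw [← Functor.map_comp, ← Functor.map_comp, e₂, hn₂]))

/-- the common refinement of the translates of an affine chart -/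
theorem exists_translates (hX : IsAlgSpace X) {G : Type u} [Group G] [Finite G] (a : G → (X ⟶ X))
    (ha : ∀ g h, a g ≫ a h = a (g * h)) (ha₁ : a 1 = 𝟙 X) {C : Over S} [IsAffine C.left]
    (p : (yon S).obj C ⟶ X) (hp : RepWith @Etale p) :
    ∃ (W : Over S) (l : G → (W ⟶ C)) (c : (yon S).obj W ⟶ X) (τ : G → (W ⟶ W)),
      (∀ g, (yon S).map (l g) ≫ p ≫ a g = c) ∧ RepWith @Etale c ∧ Etale (l 1).left ∧ IsSeparated (l 1).left ∧
      (∀ g h, τ g ≫ τ h = τ (g * h)) ∧ τ 1 = 𝟙 W ∧ (∀ g k, τ g ≫ l k = l (k * g⁻¹)) ∧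
      (∀ g, (yon S).map (τ g) ≫ c = c ≫ a g) ∧
      ∀ {T : Over S} (y : (yon S).obj T ⟶ X) (t : G → (T ⟶ C)), (∀ g, (yon S).map (t g) ≫ p ≫ a g = y) →
        ∃! m : T ⟶ W, ∀ g, m ≫ l g = t g := by
  classical
  haveI : ∀ g, IsIso (a g) := fun g => (Iso.mk (a g) (a g⁻¹) (by rw [ha, mul_inv_cancel, ha₁])
    (by rw [ha, inv_mul_cancel, ha₁])).isIso_hom
  have hpa : ∀ g, RepWith @Etale (p ≫ a g) := fun g => (repWith_comp_iso_iff p (a g)).2 hp
  obtain ⟨W, e, l', he, hes, hw, hu⟩ := exists_wide_chart hX p hp (J := {g : G // g ≠ 1}) (fun g => p ≫ a g.1)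
    (fun g => hpa _)
  have hl : ∀ g, ∃ l : W ⟶ C, (g = 1 → l = e) ∧ ∀ h : g ≠ 1, l = l' ⟨g, h⟩ := by
    intro g
    by_cases h : g = 1
    · exact ⟨e, fun _ => rfl, fun h' => absurd h h'⟩
    · exact ⟨l' ⟨g, h⟩, fun h' => absurd h' h, fun _ => rfl⟩
  choose l hl₁ hl₂ using hl
  let c := (yon S).map e ≫ p
  have hlc : ∀ g, (yon S).map (l g) ≫ p ≫ a g = c := by
    intro g
    by_cases h : g = 1
    · rw [hl₁ g h, h, ha₁, Category.comp_id]
    · rw [hl₂ g h]
      exact hw ⟨g, h⟩
  have univ : ∀ {T : Over S} (y : (yon S).obj T ⟶ X) (t : G → (T ⟶ C)),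
      (∀ g, (yon S).map (t g) ≫ p ≫ a g = y) → ∃! m : T ⟶ W, ∀ g, m ≫ l g = t g := by
    intro T y t ht
    obtain ⟨m, ⟨hm, hm'⟩, hum⟩ := hu (t 1) (fun g => t g.1) fun g => by
      rw [ht g.1, ← ht 1, ha₁, Category.comp_id]
    refine ⟨m, fun g => ?_, fun m' h => hum m' ⟨by rw [← hl₁ 1 rfl]; exact h 1, fun g => by
      rw [← hl₂ g.1 g.2]; exact h g.1⟩⟩
    by_cases h : g = 1
    · rw [hl₁ g h, h]; exact hm
    · rw [hl₂ g h]; exact hm' ⟨g, h⟩
  have hτ : ∀ h, ∃ τ : W ⟶ W, ∀ k, τ ≫ l k = l (k * h⁻¹) := fun h =>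
    (univ (c ≫ a h) (fun k => l (k * h⁻¹)) fun k => by
      rw [← hlc (k * h⁻¹)]
      simp only [Category.assoc, ha, inv_mul_cancel_right]).exists
  choose τ hτ using hτ
  have hext : ∀ {T : Over S} (m m' : T ⟶ W), (∀ g, m ≫ l g = m' ≫ l g) → m = m' := fun {T} m m' h =>
    (univ ((yon S).map m ≫ c) (fun g => m ≫ l g) fun g => by
      rw [Functor.map_comp, Category.assoc, hlc]).unique (fun g => rfl) fun g => (h g).symm
  refine ⟨W, l, c, τ, hlc, repWith_comp ((repWith_yon_iff e).2 he) hp, ?_, ?_, fun g h => hext _ _ fun k => ?_,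
    hext _ _ fun k => ?_, hτ, fun g => ?_, univ⟩
  · rw [hl₁ 1 rfl]; exact he
  · rw [hl₁ 1 rfl]; exact hes
  · rw [Category.assoc, hτ h, hτ g, hτ (g * h), mul_inv_rev, mul_assoc]
  · rw [hτ 1, inv_one, mul_one, Category.id_comp]
  · conv_lhs => rw [← hlc g]
    rw [← Category.assoc, ← Functor.map_comp, hτ, mul_inv_cancel]
    show _ = ((yon S).map e ≫ p) ≫ a g
    rw [hl₁ 1 rfl, Category.assoc]

end Groth.Agent.RatChart

end
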