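import Groth.Agent.ArtinAtlas.Setup
import Groth.Agent.QuotScheme.Existence
import Groth.Agent.QuotScheme.Free
import Groth.Agent.PtsDense.Basic
import Groth.Agent.S1550
import Groth.Agent.ArtinAtlas.Atlas
import Groth.Agent.AlgSpLib.Sigma
import Groth.Agent.AlgSpLib.Atlas
import Groth.Agent.AlgStLib.Stacks
import Mathlib.FieldTheory.Galois.Basic
import Mathlib.FieldTheory.IsSepClosed
import Mathlib.FieldTheory.Normal.Closure

/-!
# Galois points of smooth charts and graphs of free group actions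
-/

set_option autoImplicit false
set_option backward.isDefEq.respectTransparency false
set_option backward.isDefEq.respectTransparency.types false
set_option linter.style.haveILetI false
universe v₂ u₂ u

noncomputable section

namespace Groth.Agent.RatChart

open CategoryTheory CategoryTheory.Limits AlgebraicGeometry Opposite Groth.Agent.AlgSpLib Groth.Agent.ArtinAtlas
open _root_.AlgSp _root_.AlgSt

/-- an action from its translations -/
def autOf {W : Scheme.{u}} {G : Type u} [Group G] (τ : G → (W ⟶ W)) (h₁ : τ 1 = 𝟙 W)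
    (hm : ∀ g h, τ g ≫ τ h = τ (g * h)) : G →* Aut W where
  toFun g := ⟨τ g⁻¹, τ g, by rw [hm, inv_mul_cancel, h₁], by rw [hm, mul_inv_cancel, h₁]⟩
  map_one' := Iso.ext (show τ (1 : G)⁻¹ = 𝟙 W by rw [inv_one, h₁])
  map_mul' g h := Iso.ext (show τ (g * h)⁻¹ = τ h⁻¹ ≫ τ g⁻¹ by rw [hm, mul_inv_rev])

theorem autOf_hom {W : Scheme.{u}} {G : Type u} [Group G] (τ : G → (W ⟶ W)) (h₁ : τ 1 = 𝟙 W)
    (hm : ∀ g h, τ g ≫ τ h = τ (g * h)) (g : G) : (autOf τ h₁ hm g).hom = τ g⁻¹ := rfl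

variable {S : Scheme.{u}}

/-- the double product of a free quotient is made of the graphs -/
theorem exists_graphs {G : Type u} [Group G] [Finite G] {W B : Over S} (π : W ⟶ B) (τ : G → (W ⟶ W))
    (ρ : G →* Aut W.left) (hτ : ∀ g, (τ g).left = (ρ g⁻¹).hom)
    (hq : SGA1.IsQuot ρ π.left) (hf : QuotScheme.IsFree ρ) :
    ∃ (T₂ : Over S) (pr₁ pr₂ : T₂ ⟶ W) (inc : G → (W ⟶ T₂)), IsPullback pr₁ pr₂ π π ∧
      (∀ g, inc g ≫ pr₁ = 𝟙 W) ∧ (∀ g, inc g ≫ pr₂ = τ g) ∧ (∀ g, IsOpenImmersion (inc g).left) ∧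
      (∀ t : T₂.left, ∃ (g : G) (w : W.left), (inc g).left w = t) ∧
      (∀ {F : Sp S} (l : G → ((yon S).obj W ⟶ F)), ∃ L, ∀ g, (yon S).map (inc g) ≫ L = l g) ∧
      ∀ {Z : Over S} (a b : T₂ ⟶ Z), (∀ g, inc g ≫ a = inc g ≫ b) → a = b := by
  let A : G → Scheme.{u} := fun _ => W.left
  haveI hi : IsIso (Sigma.desc (fun g : G => pullback.lift (𝟙 W.left) (ρ g).hom
      ((Category.id_comp π.left).trans (hq.inv g).symm)) : (∐ fun _ : G => W.left) ⟶ pullback π.left π.left) :=
    QuotScheme.isIso_graphs hq hf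
  let T₂ : Over S := Over.mk (Sigma.desc (fun _ : G => W.hom) : ∐ A ⟶ S)
  let pr₁ : T₂ ⟶ W := Over.homMk (Sigma.desc fun _ => 𝟙 W.left) (Sigma.hom_ext _ _ fun g => by
    simp [T₂, A])
  let pr₂ : T₂ ⟶ W := Over.homMk (Sigma.desc fun g => (ρ g).hom) (Sigma.hom_ext _ _ fun g => by
    have e : (ρ g).hom ≫ W.hom = W.hom := by rw [← Over.w π, reassoc_of% (hq.inv g)]
    simp [T₂, A, e])
  let inc : G → (W ⟶ T₂) := fun g => Over.homMk (Sigma.ι A g⁻¹) (Sigma.ι_desc _ _)
  have sq : IsPullback pr₁.left pr₂.left π.left π.left := by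
    refine IsPullback.of_iso_pullback ⟨Sigma.hom_ext _ _ fun g => ?_⟩
      (asIso (Sigma.desc (fun g : G => pullback.lift (𝟙 W.left) (ρ g).hom
        ((Category.id_comp π.left).trans (hq.inv g).symm)) : (∐ fun _ : G => W.left) ⟶ pullback π.left π.left)) ?_ ?_
    · simp [pr₁, pr₂, A, hq.inv g]
    · exact Sigma.hom_ext _ _ fun g => by simp [pr₁, A]
    · exact Sigma.hom_ext _ _ fun g => by simp [pr₂, A]
  refine ⟨T₂, pr₁, pr₂, inc, ?_, fun g => ?_, fun g => ?_, fun g => inferInstanceAs (IsOpenImmersion (Sigma.ι A g⁻¹)),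
    fun t => ?_, fun {F} l => ?_, fun {Z} a b h => ?_⟩
  · exact IsPullback.of_map (Over.forget S) (Over.OverMorphism.ext sq.w) sq
  · exact Over.OverMorphism.ext (show Sigma.ι A g⁻¹ ≫ Sigma.desc _ = _ by rw [Sigma.ι_desc]; rfl)
  · exact Over.OverMorphism.ext (show Sigma.ι A g⁻¹ ≫ Sigma.desc _ = _ by rw [Sigma.ι_desc, hτ])
  · obtain ⟨g, w, hw⟩ := (sigmaOpenCover A).exists_eq t
    exact ⟨g⁻¹, w, by show Sigma.ι A (g⁻¹)⁻¹ w = t; rw [inv_inv]; exact hw⟩
  · obtain ⟨L, hL⟩ := exists_sigma_hom (Z := A) (fun _ => W.hom) (fun g => l g⁻¹)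
    exact ⟨L, fun g => (hL g⁻¹).trans (by rw [inv_inv])⟩
  · refine Over.OverMorphism.ext (Sigma.hom_ext _ _ fun g => ?_)
    have key : ∀ g', g' = g → Sigma.ι A g' ≫ a.left = Sigma.ι A g' ≫ b.left →
        Sigma.ι A g ≫ a.left = Sigma.ι A g ≫ b.left := by
      rintro g' rfl e
      exact e
    exact key _ (inv_inv g) (congrArg (fun k : W ⟶ Z => k.left) (h g⁻¹))

/-- finite Galois extensions give free quotients -/
theorem isQuot_galois (k L : Type u) [Field k] [Field L] [Algebra k L] [FiniteDimensional k L] [IsGalois k L]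
    (ρ : (L ≃ₐ[k] L) →* Aut (Spec (CommRingCat.of L)))
    (hρ : ∀ g, (ρ g).hom = Spec.map (CommRingCat.ofHom (g⁻¹ : L ≃ₐ[k] L).toRingEquiv.toRingHom)) :
    SGA1.IsQuot ρ (Spec.map (CommRingCat.ofHom (algebraMap k L))) ∧ QuotScheme.IsFree ρ := by
  let φ : CommRingCat.of k ⟶ CommRingCat.of L := CommRingCat.ofHom (algebraMap k L)
  have hinv : ∀ g, (ρ g).hom ≫ Spec.map φ = Spec.map φ := fun g => by
    rw [hρ, ← Spec.map_comp]
    congr 1
    exact CommRingCat.hom_ext (RingHom.ext fun c => (g⁻¹ : L ≃ₐ[k] L).commutes c)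
  refine ⟨QuotScheme.of_affine_cover inferInstance hinv fun y => ⟨⊤, isAffineOpen_top _, trivial, ?_, ?_⟩, ?_⟩
  · have hin : Function.Injective (Spec.map φ).appTop.hom := by
      intro a b hab
      have e : ∀ c, (Scheme.ΓSpecIso (CommRingCat.of L)).hom.hom ((Spec.map φ).appTop.hom c) =
          algebraMap k L ((Scheme.ΓSpecIso (CommRingCat.of k)).hom.hom c) := fun c =>
        congr($(Scheme.ΓSpecIso_naturality φ) c)
      apply (ConcreteCategory.bijective_of_isIso (Scheme.ΓSpecIso (CommRingCat.of k)).hom).1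
      exact (algebraMap k L).injective ((e a).symm.trans ((congrArg _ hab).trans (e b)))
    exact hin
  · intro s hs
    let iL := Scheme.ΓSpecIso (CommRingCat.of L)
    have hfix : ∀ g : L ≃ₐ[k] L, g (iL.hom.hom s) = iL.hom.hom s := by
      intro g
      have h1 := hs g⁻¹ (fun _ _ => trivial)
      have h2 : (ρ g⁻¹).hom.appTop.hom s = s := by
        have e : ((ρ g⁻¹).hom.appLE ⊤ ⊤ (fun _ _ => trivial)) = (ρ g⁻¹).hom.appTop := by
          rw [Scheme.Hom.appTop, Scheme.Hom.app_eq_appLE]; rfl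
        exact (congr($e s)).symm.trans h1
      conv_rhs => rw [← h2, hρ, inv_inv]
      exact (congr($(Scheme.ΓSpecIso_naturality (CommRingCat.ofHom g.toRingEquiv.toRingHom)) s)).symm
    obtain ⟨c, hc⟩ : iL.hom.hom s ∈ (⊥ : IntermediateField k L) := (IsGalois.mem_bot_iff_fixed _).2 hfix
    refine ⟨(Scheme.ΓSpecIso (CommRingCat.of k)).inv.hom c, ?_⟩
    apply (ConcreteCategory.bijective_of_isIso iL.hom).1
    refine (congr($(Scheme.ΓSpecIso_naturality φ) ((Scheme.ΓSpecIso (CommRingCat.of k)).inv.hom c))).trans ?_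
    exact (congrArg φ.hom congr($((Scheme.ΓSpecIso (CommRingCat.of k)).inv_hom_id) c)).trans hc
  · intro K _ _ ξ g hg
    obtain ⟨ψ, rfl⟩ := Spec.map_surjective ξ
    rw [hρ, ← Spec.map_comp] at hg
    have e := Spec.map_injective hg
    refine inv_eq_one.1 (AlgEquiv.ext fun a => ψ.hom.injective ?_)
    exact RingHom.congr_fun (congrArg CommRingCat.Hom.hom e) a

variable {𝒳 : BasedCategory.{v₂, u₂} (Over S)} {U : Over S} {x : FibCat.overCat U ⥤ᵇ 𝒳}

/-- isomorphisms agree if they agree on a covering -/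
theorem hom2_ext_cover (hX : FibCat.IsFibGrpd 𝒳.p) {U' : Over S} {y : FibCat.overCat U' ⥤ᵇ 𝒳} (D : PairSp x y)
    {T : Over S} {ι : Type u} {V : ι → Over S} (inc : ∀ i, V i ⟶ T) (ho : ∀ i, IsOpenImmersion (inc i).left)
    (hc : ∀ t : T.left, ∃ i v, (inc i).left v = t) {a : T ⟶ U} {b : T ⟶ U'} {θ θ' : Hom2 x y a b}
    (h : ∀ i, ∃ (a' : V i ⟶ U) (b' : V i ⟶ U') (χ : Hom2 x y a' b'), Hom2.Res (inc i) θ χ ∧ Hom2.Res (inc i) θ' χ) : θ = θ' := by
  obtain ⟨p, hp, -⟩ := D.existsUnique θ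
  obtain ⟨p', hp', -⟩ := D.existsUnique θ'
  obtain ⟨ξ, rfl⟩ := sec_surjective p
  obtain ⟨ξ', rfl⟩ := sec_surjective p'
  have hR : Presieve.ofArrows (fun i => (V i).left) (fun i => (inc i).left) ∈ Scheme.fppfPrecoverage T.left := by
    refine Scheme.zariskiPrecoverage_le_fppfPrecoverage _ ?_
    rw [Scheme.zariskiPrecoverage, Scheme.ofArrows_mem_precoverage_iff]
    exact ⟨fun t => ⟨(hc t).choose, (hc t).choose_spec⟩, fun i => ho i⟩
  have e : ξ = ξ' := by
    refine hom_ext_cover hR fun Z g hg => ?_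
    obtain ⟨i⟩ := hg
    obtain ⟨a', b', χ, h₁, h₂⟩ := h i
    let e : V i ⟶ Over.mk ((inc i).left ≫ T.hom) := Over.homMk (𝟙 _) (by
      show 𝟙 _ ≫ (inc i).left ≫ T.hom = _
      rw [Category.id_comp, Over.w])
    have he : e ≫ Over.homMk (inc i).left rfl = inc i := Over.OverMorphism.ext (Category.id_comp _)
    haveI : IsIso e := (Over.isoMk (Iso.refl _) (Over.w e) : V i ≅ Over.mk ((inc i).left ≫ T.hom)).isIso_hom
    rw [← cancel_epi ((yon S).map e), ← Category.assoc, ← Category.assoc, ← Functor.map_comp, he]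
    refine sec_injective ?_
    rw [sec_comp, sec_comp]
    exact (D.sec_eq_iff hX hp hp' _ _).2 ⟨_, _, χ, h₁, h₂⟩
  subst e
  have := D.unique hp hp'
  exact (Hom2.res_id θ).unique hX this

/-- smooth surjective charts have points over finite Galois subextensions of the separable closure -/
theorem exists_galois_point_ks (hX : FibCat.IsFibGrpd 𝒳.p) (hx : RepByAlgSpWith (LocP @Smooth) x)
    (hxs : RepByAlgSpWith AlgSp.IsSurjectiveMor x) (k : Type u) [Field k] (str : Spec (CommRingCat.of k) ⟶ S)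
    (z : FibCat.overCat (Over.mk str) ⥤ᵇ 𝒳) :
    ∃ (L : IntermediateField k (SeparableClosure k)) (_ : FiniteDimensional k L) (_ : IsGalois k L)
      (t : Over.mk (Spec.map (CommRingCat.ofHom (algebraMap k L)) ≫ str) ⟶ U),
      Nonempty (Hom2 z x (Over.homMk (Spec.map (CommRingCat.ofHom (algebraMap k L))) rfl :
        Over.mk (Spec.map (CommRingCat.ofHom (algebraMap k L)) ≫ str) ⟶ Over.mk str) t) := by
  haveI := respectsIso_locP (S := S) @Smooth
  haveI := respectsIso_surjective (S := S)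
  obtain ⟨D, hD⟩ := exists_pairSp hX z (AlgStLib.repByAlgSp1_of_with hx)
  have hsm : LocP @Smooth D.pr₁ := hD _ inferInstance hx
  have hsu : IsSurjectiveMor D.pr₁ := hD _ inferInstance hxs
  obtain ⟨C₀, p, hp, hps⟩ := D.isAlgSpace.atlas
  obtain ⟨a, b, θ, hθ⟩ := D.exists_cl (sec p)
  let Φ : Chart D := ⟨C₀, p, hp, a, b, θ, hθ⟩
  haveI hs : Smooth a.left := Chart.prop_a _ hsm Φ
  have e : p ≫ D.pr₁ = (yon _).map a := sec_injective (by
    rw [sec_map]
    exact (ULift.ext _ _ ((D.pr₁_eq hθ).trans (Category.id_comp a).symm) :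
      _ = (sec ((yon _).map a) : ULift.{u + 1} (C₀ ⟶ Over.mk str))))
  obtain ⟨q, -⟩ := hsu (Points.ofScheme (Over.mk str) (IsLocalRing.closedPoint k))
  obtain ⟨c, -⟩ := AlgSpLib.ofPt_surjective hps q
  letI : C₀.left.Over (Spec (CommRingCat.of k)) := ⟨a.left⟩
  haveI : Smooth (C₀.left ↘ Spec (CommRingCat.of k)) := hs
  haveI : Nonempty C₀.left := ⟨c⟩
  obtain ⟨y, -, hfin, hsep⟩ := (Groth.Agent.S1550.result k C₀.left).nonempty
  letI := Curv2.resAlgebra k C₀.left y
  haveI : FiniteDimensional k (C₀.left.residueField y) := hfin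
  haveI : Algebra.IsSeparable k (C₀.left.residueField y) := hsep
  let ks := SeparableClosure k
  let L := IntermediateField.normalClosure k (C₀.left.residueField y) ks
  haveI : IsGalois k L := ⟨⟩
  let ι : C₀.left.residueField y →ₐ[k] ks := IsSepClosed.lift
  have hι : ι.fieldRange ≤ L := ι.fieldRange_le_normalClosure
  let ιL : C₀.left.residueField y →+* L :=
    (IntermediateField.inclusion hι).toRingHom.comp ι.rangeRestrict.toRingHom
  let f : Spec (CommRingCat.of L) ⟶ C₀.left :=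
    Spec.map (CommRingCat.ofHom ιL) ≫ C₀.left.fromSpecResidueField y
  have hf : f ≫ a.left = Spec.map (CommRingCat.ofHom (algebraMap k L)) := by
    have key : C₀.left.fromSpecResidueField y ≫ a.left =
        Spec.map (CommRingCat.ofHom (algebraMap k (C₀.left.residueField y))) := by
      obtain ⟨ψ, hψ⟩ := Spec.map_surjective (C₀.left.fromSpecResidueField y ≫ a.left)
      rw [← hψ]
      congr 1
      have h1 : ψ = (Scheme.ΓSpecIso _).inv ≫ (Spec.map ψ).appTop ≫ (Scheme.ΓSpecIso _).hom := by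
        rw [Scheme.ΓSpecIso_naturality, Iso.inv_hom_id_assoc]
      rw [h1, hψ, Scheme.Hom.comp_appTop, Category.assoc]
      have h2 : (C₀.left.fromSpecResidueField y).appTop ≫ (Scheme.ΓSpecIso _).hom =
          C₀.left.presheaf.germ ⊤ y trivial ≫ C₀.left.residue y := by
        rw [Scheme.fromSpecResidueField, Scheme.Hom.comp_appTop, Scheme.fromSpecStalk_appTop, Category.assoc,
          Category.assoc, Scheme.ΓSpecIso_naturality]
        simp
      rw [h2]
      rfl
    show (_ ≫ _) ≫ a.left = _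
    rw [Category.assoc, key, ← Spec.map_comp]
    congr 1
    exact CommRingCat.hom_ext (RingHom.ext fun c => Subtype.ext (ι.commutes c))
  let KL : Over S := Over.mk (Spec.map (CommRingCat.ofHom (algebraMap k L)) ≫ str)
  let fO : KL ⟶ C₀ := Over.homMk f (by
    show f ≫ C₀.hom = _
    rw [← Over.w a, reassoc_of% hf]
    rfl)
  obtain ⟨θ', hθ', -⟩ := Hom2.exists_res hX θ fO
    (Over.homMk (Spec.map (CommRingCat.ofHom (algebraMap k L))) rfl) (fO ≫ b) (Over.OverMorphism.ext hf) rfl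
  exact ⟨L, inferInstance, inferInstance, fO ≫ b, ⟨θ'⟩⟩

/-- smooth surjective charts have points over finite Galois extensions -/
theorem exists_galois_point (hX : FibCat.IsFibGrpd 𝒳.p) (hx : RepByAlgSpWith (LocP @Smooth) x)
    (hxs : RepByAlgSpWith AlgSp.IsSurjectiveMor x) (k : Type u) [Field k] (str : Spec (CommRingCat.of k) ⟶ S)
    (z : FibCat.overCat (Over.mk str) ⥤ᵇ 𝒳) :
    ∃ (L : Type u) (_ : Field L) (_ : Algebra k L) (_ : FiniteDimensional k L) (_ : IsGalois k L)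
      (t : Over.mk (Spec.map (CommRingCat.ofHom (algebraMap k L)) ≫ str) ⟶ U),
      Nonempty (Hom2 z x (Over.homMk (Spec.map (CommRingCat.ofHom (algebraMap k L))) rfl :
        Over.mk (Spec.map (CommRingCat.ofHom (algebraMap k L)) ≫ str) ⟶ Over.mk str) t) := by
  obtain ⟨L, i₁, i₂, t, ψ⟩ := exists_galois_point_ks hX hx hxs k str z
  exact ⟨L, inferInstance, inferInstance, i₁, i₂, t, ψ⟩

end Groth.Agent.RatChart

end
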