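import Groth.Agent.ArtinAtlas.Neutral

/-!
# Charts locally isomorphic to smooth charts
-/

set_option autoImplicit false
set_option backward.isDefEq.respectTransparency false
set_option backward.isDefEq.respectTransparency.types false
set_option linter.style.haveILetI false
universe v₂ u₂ u

noncomputable section

namespace Groth.Agent.RatChart

open CategoryTheory CategoryTheory.Limits AlgebraicGeometry Opposite Groth.Agent.AlgSpLib Groth.Agent.ArtinAtlas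
open _root_.AlgSp _root_.AlgSt

variable {S : Scheme.{u}} {𝒳 : BasedCategory.{v₂, u₂} (Over S)} {U₂ U₃ Q : Over S}
  {y : FibCat.overCat U₂ ⥤ᵇ 𝒳} {z : FibCat.overCat U₃ ⥤ᵇ 𝒳} {qM : Q ⟶ U₂} {qV : Q ⟶ U₃}

/-- a chart which is locally isomorphic to a smooth chart is smooth -/
theorem repWith_smooth_of_local_iso (hX : FibCat.IsFibGrpd 𝒳.p) (hy : RepByAlgSp1 y)
    (hz : RepByAlgSpWith (LocP @Smooth) z) (η : Hom2 y z qM qV)
    [Flat qM.left] [LocallyOfFinitePresentation qM.left] [Surjective qM.left] [Smooth qV.left] :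
    RepByAlgSpWith (LocP @Smooth) y := by
  haveI := respectsIso_locP (S := S) @Smooth
  refine repWith_locP_of_charts etST_smooth hX hy fun T x' D Φ => ?_
  obtain ⟨D₁, hD₁⟩ := exists_pairSp hX x' (AlgStLib.repByAlgSp1_of_with hz)
  have hD₁' := hD₁ _ inferInstance hz
  let CV := pullback Φ.b qM
  let π₁ : CV ⟶ Φ.C := pullback.fst Φ.b qM
  let π₂ : CV ⟶ Q := pullback.snd Φ.b qM
  have sqC : IsPullback π₁.left π₂.left Φ.b.left qM.left :=
    (IsPullback.of_hasPullback Φ.b qM).map (Over.forget S)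
  haveI : Surjective π₁.left := MorphismProperty.of_isPullback (P := @Surjective) sqC.flip ‹_›
  haveI : Flat π₁.left := MorphismProperty.of_isPullback (P := @Flat) sqC.flip ‹_›
  haveI : LocallyOfFinitePresentation π₁.left :=
    MorphismProperty.of_isPullback (P := @LocallyOfFinitePresentation) sqC.flip ‹_›
  obtain ⟨α₀, hα₀, -⟩ := Hom2.exists_res hX Φ.θ π₁ (π₁ ≫ Φ.a) (π₁ ≫ Φ.b) rfl rfl
  obtain ⟨β₀, hβ₀, -⟩ := Hom2.exists_res hX η π₂ (π₁ ≫ Φ.b) (π₂ ≫ qV)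
    (show π₂ ≫ qM = π₁ ≫ Φ.b from pullback.condition.symm) rfl
  have main : Smooth (π₁.left ≫ Φ.a.left) := by
    refine prop_of_etale_cover etST_smooth _ fun c => ?_
    obtain ⟨Ψ, -, W₀, l₀, q₀, -, hlq, w₀, hw₀⟩ := D₁.exists_affine_chart hX (α₀.comp β₀) c
    obtain ⟨W₁, r₁, m₁, hm₁, hs₁, hu₁⟩ := Chart.liftable hX Ψ (α₀.comp β₀)
    have tri₁ := (sameRes_iff_tri₂ (θ₂ := Ψ.θ) hX hα₀ hβ₀ r₁ m₁).1 hs₁
    let PQ := pullback qV Ψ.b
    let pQ : PQ ⟶ Q := pullback.fst qV Ψ.b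
    let pR : PQ ⟶ Ψ.C := pullback.snd qV Ψ.b
    obtain ⟨β₁, hβ₁, -⟩ := Hom2.exists_res hX η pQ (pQ ≫ qM) (pR ≫ Ψ.b) rfl pullback.condition
    obtain ⟨γ₁, hγ₁, -⟩ := Hom2.exists_res hX Ψ.θ pR (pR ≫ Ψ.a) (pR ≫ Ψ.b) rfl rfl
    obtain ⟨W₂, r₂, m₂, hm₂, hs₂, hu₂⟩ := Chart.liftable hX Φ (γ₁.comp (β₁.inv hX))
    have tri₂ := (sameRes_iff_tri₁ hX hγ₁ hβ₁ r₂ m₂).1 hs₂
    have hb₁ : (m₁ ≫ π₂) ≫ qV = r₁ ≫ Ψ.b := by
      rw [hs₁.endpoints.2, Category.assoc]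
    have hb₂ : r₂ ≫ Φ.b = (m₂ ≫ pQ) ≫ qM := by
      rw [hs₂.endpoints.2, Category.assoc]
    let k₁ : W₁ ⟶ PQ := pullback.lift (m₁ ≫ π₂) r₁ hb₁
    let k₂ : W₂ ⟶ CV := pullback.lift r₂ (m₂ ≫ pQ) hb₂
    obtain ⟨d, ⟨hd₁, hd₂⟩, -⟩ := hu₂ (m₁ ≫ π₁) k₁ ((sameRes_iff_tri₁ hX hγ₁ hβ₁ _ _).2 (by
      rw [show k₁ ≫ pR = r₁ from pullback.lift_snd _ _ _, show k₁ ≫ pQ = m₁ ≫ π₂ from pullback.lift_fst _ _ _]
      exact tri₁))
    obtain ⟨e, ⟨he₁, he₂⟩, -⟩ := hu₁ (m₂ ≫ pR) k₂ ((sameRes_iff_tri₂ (θ₂ := Ψ.θ) hX hα₀ hβ₀ _ _).2 (by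
      rw [show k₂ ≫ π₁ = r₂ from pullback.lift_fst _ _ _, show k₂ ≫ π₂ = m₂ ≫ pQ from pullback.lift_snd _ _ _]
      exact tri₂))
    have hde : d ≫ e = 𝟙 W₁ := by
      refine (hu₁ r₁ m₁ hs₁).unique ⟨?_, ?_⟩ ⟨Category.id_comp _, Category.id_comp _⟩
      · rw [Category.assoc, he₁, ← Category.assoc, hd₂]
        exact pullback.lift_snd _ _ _
      · rw [Category.assoc, he₂]
        refine pullback.hom_ext ?_ ?_
        · rw [Category.assoc]
          exact (congrArg (d ≫ ·) (pullback.lift_fst _ _ _)).trans hd₁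
        · rw [Category.assoc]
          refine (congrArg (d ≫ ·) (pullback.lift_snd _ _ _)).trans ?_
          rw [← Category.assoc, hd₂]
          exact pullback.lift_fst _ _ _
    have hed : e ≫ d = 𝟙 W₂ := by
      refine (hu₂ r₂ m₂ hs₂).unique ⟨?_, ?_⟩ ⟨Category.id_comp _, Category.id_comp _⟩
      · rw [Category.assoc, hd₁, ← Category.assoc, he₂]
        exact pullback.lift_fst _ _ _
      · rw [Category.assoc, hd₂]
        refine pullback.hom_ext ?_ ?_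
        · rw [Category.assoc]
          refine (congrArg (e ≫ ·) (pullback.lift_fst _ _ _)).trans ?_
          rw [← Category.assoc, he₂]
          exact pullback.lift_snd _ _ _
        · rw [Category.assoc]
          exact (congrArg (e ≫ ·) (pullback.lift_snd _ _ _)).trans he₁
    haveI : IsIso d := (Iso.mk d e hde hed).isIso_hom
    haveI : IsIso d.left := inferInstanceAs (IsIso ((Over.forget S).map d))
    have sqQ : IsPullback pQ.left pR.left qV.left Ψ.b.left :=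
      (IsPullback.of_hasPullback qV Ψ.b).map (Over.forget S)
    haveI : Smooth Ψ.a.left := Chart.prop_a _ hD₁' Ψ
    haveI : Smooth pR.left := MorphismProperty.of_isPullback (P := @Smooth) sqQ ‹_›
    haveI := hm₂
    obtain ⟨w', ⟨-, hw'⟩, -⟩ := hu₁ l₀ q₀ hlq
    refine ⟨W₁.left, m₁.left, hm₁, ⟨w'.left w₀, ?_⟩, ?_⟩
    · rw [← hw₀]
      exact congrArg (fun k : W₀ ⟶ CV => k.left w₀) hw'
    · have e₁ : m₁ ≫ π₁ ≫ Φ.a = d ≫ m₂ ≫ pR ≫ Ψ.a := by
        rw [← Category.assoc m₁, ← hd₁, Category.assoc, hs₂.endpoints.1]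
      rw [← Over.comp_left, ← Over.comp_left, e₁]
      exact inferInstanceAs (Smooth (d.left ≫ m₂.left ≫ pR.left ≫ Ψ.a.left))
  haveI := main
  exact FppfSource.smooth π₁.left Φ.a.left


end Groth.Agent.RatChart

end
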