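import Groth.Agent.RatChart.Power
import Groth.Agent.RatChart.Galois
import Groth.Agent.RatChart.Smooth
import Groth.Agent.ArtinAtlas.Descend
import Groth.Agent.ArtinAtlas.Saturate

/-!
# Descending the chart along a free quotient
-/

set_option autoImplicit false
set_option backward.isDefEq.respectTransparency false
set_option backward.isDefEq.respectTransparency.types false
set_option linter.style.haveILetI false
universe v₂ u₂ u

noncomputable section

namespace Groth.Agent.RatChart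

open CategoryTheory CategoryTheory.Limits AlgebraicGeometry Opposite Groth.Agent.AlgSpLib Groth.Agent.ArtinAtlas
open _root_.AlgSp _root_.AlgSt

variable {S : Scheme.{u}} {𝒳 : BasedCategory.{v₂, u₂} (Over S)} {U : Over S} {x : FibCat.overCat U ⥤ᵇ 𝒳}
  {G : Type u} [Group G]

/-- equivariant points classify equivariant families -/
theorem res_of_equivariant (hX : FibCat.IsFibGrpd 𝒳.p) {i₀ : G} (P : PowSp x G i₀) {a : (G → G) → (P.F ⟶ P.F)}
    (hcl : ∀ (e : G → G) {T : Over S} {p : (yon S).obj T ⟶ P.F} {s : Tup x G T},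
      P.Cl p s → P.Cl (p ≫ a e) (s.relabel e))
    {W : Over S} {p : (yon S).obj W ⟶ P.F} {s : Tup x G W} (hs : P.Cl p s) {τ : W ⟶ W} {g : G}
    (h : (yon S).map τ ≫ p = p ≫ a (fun i => g * i)) : Tup.Res τ s (s.relabel fun i => g * i) := by
  obtain ⟨s', hs'⟩ := Tup.exists_res hX τ s
  have h1 := P.natural τ hs hs'
  rw [h] at h1
  have h2 := P.unique h1 (hcl _ hs)
  intro i j
  have := (hs' i j).trans (h2 i j)
  rwa [Category.id_comp] at this

/-- a free equivariant family descends to a smooth chart of the stack -/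
theorem exists_descended [Finite G] (hX : FibCat.IsFibGrpd 𝒳.p)
    (hst : ∀ {T B : Over S} (q : T ⟶ B), Etale q.left → Surjective q.left → Stk.IsStackFor (cov q) 𝒳)
    (hx : RepByAlgSpWith (LocP @Smooth) x) (hrep : ∀ (V : Over S) (c : FibCat.overCat V ⥤ᵇ 𝒳), RepByAlgSp1 c)
    {W B : Over S} (π : W ⟶ B) (τ : G → (W ⟶ W)) (ρ : G →* Aut W.left) (hq : SGA1.IsQuot ρ π.left)
    (hfree : QuotScheme.IsFree ρ) [Etale π.left] [Surjective π.left] (hτ : ∀ g, (τ g).left = (ρ g⁻¹).hom)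
    (hττ : ∀ g h, τ g ≫ τ h = τ (g * h))
    (s : Tup x G W) (hs : ∀ g, Tup.Res (τ g) s (s.relabel fun i => g * i)) (hw : Smooth (s.u 1).left) :
    ∃ (c : FibCat.overCat B ⥤ᵇ 𝒳) (φ : Hom2 c x π (s.u 1)), RepByAlgSpWith (LocP @Smooth) c ∧
      ∀ g, Hom2.Res (τ g) φ (φ.comp (s.θ 1 g)) := by
  classical
  obtain ⟨D, -⟩ := exists_pairSp hX x (AlgStLib.repByAlgSp1_of_with hx)
  obtain ⟨T₂, pr₁, pr₂, inc, sq, hi₁, hi₂, hio, hicov, hglue, hext⟩ := exists_graphs π τ ρ hτ hq hfree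
  choose pg hpg using fun g => (D.existsUnique (s.θ 1 g)).exists
  choose lg hlg using fun g => sec_surjective (pg g)
  obtain ⟨Lη, hLη⟩ := hglue lg
  obtain ⟨aη, bη, η, hη⟩ := D.exists_cl (sec Lη)
  have hτu : ∀ g i, τ g ≫ s.u i = s.u (g * i) := fun g i => (hs g).u_eq i
  have hηg : ∀ g, Hom2.Res (inc g) η (s.θ 1 g) := fun g => by
    have h1 := D.natural (inc g) hη (η.res_spec hX (inc g))
    rw [← sec_comp, hLη, hlg] at h1
    have h2 := D.unique h1 (hpg g)
    have h3 := (η.res_spec hX (inc g)).trans h2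
    rwa [Category.id_comp] at h3
  obtain rfl : pr₁ ≫ s.u 1 = aη := hext _ _ fun g => by
    rw [(hηg g).1, ← Category.assoc, hi₁, Category.id_comp]
  obtain rfl : pr₂ ≫ s.u 1 = bη := hext _ _ fun g => by
    rw [(hηg g).2.1, ← Category.assoc, hi₂, hτu, mul_one]
  let T₃ := pullback (pr₂ ≫ π) π
  let d : Desc1 x π :=
    { w := s.u 1
      T₂ := T₂
      pr₁ := pr₁
      pr₂ := pr₂
      sq := sq
      T₃ := T₃
      p₁₂ := pullback.fst _ _
      p₃ := pullback.snd _ _
      sq₃ := IsPullback.of_hasPullback _ _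
      η := η
      cocycle := fun k₂₃ k₁₃ h₁ h₂ h₃ h₄ {a b c} θ θ' θ'' r r' r'' => by
        let p₁₂ : T₃ ⟶ T₂ := pullback.fst (pr₂ ≫ π) π
        let O : G × G → T₃.left.Opens := fun gh =>
          p₁₂.left ⁻¹ᵁ (haveI := hio gh.1; (inc gh.1).left.opensRange) ⊓
            k₂₃.left ⁻¹ᵁ (haveI := hio gh.2; (inc gh.2).left.opensRange)
        refine hom2_ext_cover hX D (V := fun gh => Over.mk ((O gh).ι ≫ T₃.hom)) (fun gh => Over.homMk (O gh).ι rfl)
          (fun gh => inferInstanceAs (IsOpenImmersion (O gh).ι)) (fun t => ?_) fun gh => ?_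
        · obtain ⟨g, w, hw⟩ := hicov (p₁₂.left t)
          obtain ⟨h, w', hw'⟩ := hicov (k₂₃.left t)
          exact ⟨(g, h), ⟨t, ⟨w, hw⟩, ⟨w', hw'⟩⟩, rfl⟩
        · obtain ⟨g, h⟩ := gh
          let j : Over.mk ((O (g, h)).ι ≫ T₃.hom) ⟶ T₃ := Over.homMk (O (g, h)).ι rfl
          have fact : ∀ (g' : G) (k : T₃ ⟶ T₂), (∀ z : (O (g, h)).toScheme, k.left z.1 ∈ Set.range (inc g').left) →
              j ≫ k = (j ≫ k ≫ pr₁) ≫ inc g' := by
            intro g' k hr
            haveI := hio g'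
            let m₀ := IsOpenImmersion.lift (inc g').left (j ≫ k).left (by
              rintro _ ⟨z, rfl⟩
              exact hr z)
            have hm₀ : m₀ ≫ (inc g').left = (j ≫ k).left := IsOpenImmersion.lift_fac _ _ _
            let m : Over.mk ((O (g, h)).ι ≫ T₃.hom) ⟶ W := Over.homMk m₀ (by
              rw [← Over.w (inc g'), ← Category.assoc, hm₀]
              exact Over.w (j ≫ k))
            have hm : m ≫ inc g' = j ≫ k := Over.OverMorphism.ext hm₀
            rw [← Category.assoc j, ← hm, Category.assoc m (inc g') pr₁, hi₁, Category.comp_id]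
          let w₀ := j ≫ p₁₂ ≫ pr₁
          have f₁ : j ≫ p₁₂ = w₀ ≫ inc g := fact g p₁₂ fun z => z.2.1
          have f₂ : j ≫ k₂₃ = (w₀ ≫ τ g) ≫ inc h := by
            rw [fact h k₂₃ fun z => z.2.2, h₁]
            show (j ≫ p₁₂ ≫ pr₂) ≫ _ = _
            rw [← Category.assoc j, f₁, Category.assoc w₀ (inc g) pr₂, hi₂]
          have f₃ : j ≫ k₁₃ = w₀ ≫ inc (g * h) := by
            refine sq.hom_ext ?_ ?_
            · simp only [Category.assoc, hi₁, h₃, Category.comp_id]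
              rfl
            · rw [Category.assoc, h₄, Category.assoc, hi₂, ← hττ, ← h₂, ← Category.assoc j, f₂]
              simp only [Category.assoc, hi₂]
          obtain ⟨s', hs'⟩ := Tup.exists_res hX w₀ s
          have key : ∀ (k : T₃ ⟶ T₂) {a₁ b₁ : T₃ ⟶ U} (χ : Hom2 x x a₁ b₁) (i i' : G),
              Hom2.Res k η χ → Hom2.Res (j ≫ k) η (s'.θ i i') → Hom2.Res j χ (s'.θ i i') :=
            fun k {a₁ b₁} χ i i' e₁ e₂ => e₁.of_comp hX e₂
          have t₁ : Hom2.Res j θ (s'.θ 1 g) := key _ θ 1 g r (by rw [f₁]; exact (hηg g).trans (hs' 1 g))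
          have t₂ : Hom2.Res j θ' (s'.θ g (g * h)) := key _ θ' g (g * h) r' (by
            rw [f₂]
            have e := ((hηg h).trans (hs g 1 h)).trans (hs' (g * 1) (g * h))
            rw [mul_one, ← Category.assoc] at e
            exact e)
          have t₃ : Hom2.Res j θ'' (s'.θ 1 (g * h)) := key _ θ'' 1 (g * h) r''
            (by rw [f₃]; exact (hηg _).trans (hs' 1 _))
          have t₁₂ := Hom2.res_comp t₁ t₂
          rw [s'.coc] at t₁₂
          exact ⟨_, _, _, t₁₂, t₃⟩ }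
  obtain ⟨c, φ, hφ⟩ := d.exists_chart_of_stackFor hX (hst π ‹_› ‹_›)
  haveI : Smooth (s.u 1).left := hw
  refine ⟨c, φ, repWith_smooth_of_local_iso hX (hrep B c) hx φ, fun g => ?_⟩
  obtain ⟨φ₁, hφ₁, -⟩ := Hom2.exists_res hX φ pr₁ (pr₁ ≫ π) (pr₁ ≫ s.u 1) rfl rfl
  obtain ⟨φ₂, hφ₂, -⟩ := Hom2.exists_res hX φ pr₂ (pr₁ ≫ π) (pr₂ ≫ s.u 1) sq.w.symm rfl
  have e := hφ φ₁ φ₂ hφ₁ hφ₂
  have h1 : Hom2.Res (inc g) φ₁ φ := hφ₁.of_comp hX (by rw [hi₁]; exact Hom2.res_id φ)
  have h2 := Hom2.res_comp h1 (hηg g)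
  rw [show φ₁.comp η = φ₂ from e] at h2
  have := hφ₂.trans h2
  rwa [hi₂] at this

end Groth.Agent.RatChart

end
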