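import Groth.Agent.ArtinAtlas.Descend
import Groth.Agent.AlgStLib.Stacks

/-!
# Stacks for the etale and fppf topologies have descent along etale surjections
-/

set_option autoImplicit false
set_option backward.isDefEq.respectTransparency false
set_option backward.isDefEq.respectTransparency.types false
set_option linter.style.haveILetI false
universe u

noncomputable section

namespace Groth.Agent.RatChart

open CategoryTheory CategoryTheory.Limits AlgebraicGeometry Groth.Agent.ArtinAtlas Groth.Agent.AlgStLib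
open _root_.AlgSp _root_.AlgSt

variable {S : Scheme.{u}} {𝒳 : AlgSt.Cat S}

theorem cov_mem_etale {T B : Over S} (q : T ⟶ B) [Etale q.left] [Surjective q.left] :
    cov q ∈ (QuotSh.J Scheme.etalePrecoverage S) B := by
  rw [GrothendieckTopology.mem_over_iff]
  have h : Presieve.singleton q.left ∈ Scheme.etalePrecoverage B.left := by
    have h' : Presieve.ofArrows (fun _ : PUnit.{1} => T.left) (fun _ => q.left) ∈ Scheme.etalePrecoverage B.left :=
      (Scheme.ofArrows_mem_precoverage_iff @Etale).2 ⟨fun x => ⟨⟨⟩, q.left.surjective x⟩, fun _ => inferInstanceAs (Etale q.left)⟩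
    rwa [Presieve.ofArrows_pUnit] at h'
  refine GrothendieckTopology.superset_covering _ ?_ (Precoverage.generate_mem_toGrothendieck h)
  rw [Sieve.generate_le_iff]
  rintro Y _ ⟨⟩
  rw [Sieve.overEquiv_iff]
  exact mem_cov_iff.2 ⟨Over.homMk (𝟙 _) ((Category.id_comp _).trans (Over.w q).symm), Over.OverMorphism.ext (Category.id_comp _)⟩

theorem isStackFor_of_etale (h : Stk.IsStack (QuotSh.J Scheme.etalePrecoverage S) 𝒳) {T B : Over S} (q : T ⟶ B)
    (h₁ : Etale q.left) (h₂ : Surjective q.left) : Stk.IsStackFor (cov q) 𝒳 :=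
  haveI := h₁
  haveI := h₂
  h.2 _ (cov_mem_etale q)

theorem isStackFor_of_fppf (h : Stk.IsStack (QuotSh.J Scheme.fppfPrecoverage S) 𝒳) {T B : Over S} (q : T ⟶ B)
    (h₁ : Etale q.left) (h₂ : Surjective q.left) : Stk.IsStackFor (cov q) 𝒳 :=
  haveI := h₁
  haveI := h₂
  h.2 _ (cov_mem q)

theorem repByAlgSp1_chart_of_diag (hX : FibCat.IsFibGrpd 𝒳.p)
    (hd : RepByAlgSp1 (FibCat.diag (FibCat.toSelf 𝒳))) (V : Over S) (c : FibCat.overCat V ⥤ᵇ 𝒳) : RepByAlgSp1 c :=
  (repByAlgSp1_overCat_iff V c).2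
    (repByAlgSp1_point hX hd ((isAlgSpaceP_obj_iff _).2 (IsAlgSpace.yon_obj V)) _)

end Groth.Agent.RatChart

end
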