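import Mathlib.AlgebraicGeometry.Morphisms.Smooth
import Mathlib.AlgebraicGeometry.Limits
import Mathlib.RingTheory.Smooth.Basic
import Mathlib.RingTheory.Localization.Away.Basic

/-!
# A smooth affine scheme over the integers with a free action of a finite group
-/

set_option autoImplicit false
set_option backward.isDefEq.respectTransparency false
universe u

noncomputable section

namespace Groth.Agent.RatChart

open CategoryTheory CategoryTheory.Limits AlgebraicGeometry MvPolynomial

variable (G : Type u) [Group G] [Finite G]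

/-- affine, smooth, freely acted on, with points at distinct values -/
theorem exists_free_model :
    ∃ (D : Scheme.{u}) (t : D ⟶ Spec (CommRingCat.of (ULift.{u} ℤ))) (δ : G → (D ⟶ D)),
      IsAffine D ∧ Smooth t ∧ (∀ g h, δ g ≫ δ h = δ (g * h)) ∧ δ 1 = 𝟙 D ∧
      (∀ (K : Type u) [Field K] (ξ : Spec (CommRingCat.of K) ⟶ D) (g : G), ξ ≫ δ g = ξ → g = 1) ∧
      ∀ (L : Type u) [CommRing L] (v : G → L), (∀ g h, g ≠ h → IsUnit (v g - v h)) →
        ∃ ξ : Spec (CommRingCat.of L) ⟶ D, ∀ (g : G) (σ : L →+* L), (∀ i, σ (v i) = v (g * i)) →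
          Spec.map (CommRingCat.ofHom σ) ≫ ξ = ξ ≫ δ g := by
  classical
  cases nonempty_fintype G
  let Δ : MvPolynomial G (ULift.{u} ℤ) :=
    ∏ p ∈ (Finset.univ : Finset (G × G)).filter (fun p => p.1 ≠ p.2), (X p.1 - X p.2)
  let A := Localization.Away Δ
  let ι : MvPolynomial G (ULift.{u} ℤ) →+* A := algebraMap _ A
  let xA : G → A := fun i => ι (X i)
  have hext : ∀ {L : Type u} [CommRing L] (ψ ψ' : A →+* L), (∀ i, ψ (xA i) = ψ' (xA i)) → ψ = ψ' :=
    fun {L} _ ψ ψ' h => IsLocalization.ringHom_ext (Submonoid.powers Δ)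
      (MvPolynomial.ringHom_ext
        (fun r => by
          have e := Subsingleton.elim
            (((ψ.comp ι).comp C).comp (ULift.ringEquiv.{0, u} (R := ℤ)).symm.toRingHom)
            (((ψ'.comp ι).comp C).comp (ULift.ringEquiv.{0, u} (R := ℤ)).symm.toRingHom)
          exact RingHom.congr_fun e r.down)
        (fun i => h i))
  have hu : ∀ g h, g ≠ h → IsUnit (xA g - xA h) := by
    intro g h hgh
    have hΔ : IsUnit (ι Δ) := IsLocalization.Away.algebraMap_isUnit Δ
    rw [map_prod, IsUnit.prod_iff] at hΔ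
    simpa [xA] using hΔ (g, h) (Finset.mem_filter.2 ⟨Finset.mem_univ _, hgh⟩)
  have hpt : ∀ (L : Type u) [CommRing L] (v : G → L), (∀ g h, g ≠ h → IsUnit (v g - v h)) →
      ∃ ψ : A →+* L, ∀ i, ψ (xA i) = v i := by
    intro L _ v hv
    let e : MvPolynomial G (ULift.{u} ℤ) →+* L :=
      eval₂Hom ((Int.castRingHom L).comp ULift.ringEquiv.toRingHom) v
    have he : IsUnit (e Δ) := by
      rw [map_prod, IsUnit.prod_iff]
      intro p hp
      simpa [e] using hv p.1 p.2 (Finset.mem_filter.1 hp).2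
    exact ⟨IsLocalization.Away.lift Δ he, fun i => (IsLocalization.Away.lift_eq Δ he _).trans (by simp [e])⟩
  choose d hd using fun g : G => hpt A (fun i => xA (g * i)) (fun i j hij => hu _ _ (by simpa using hij))
  have hdd : ∀ g h, (d g).comp (d h) = d (g * h) := fun g h => hext _ _ fun i => by
    rw [RingHom.comp_apply, hd, hd, hd, mul_assoc]
  have hd1 : d 1 = RingHom.id A := hext _ _ fun i => by rw [hd, one_mul]; rfl
  haveI : Algebra.Smooth (ULift.{u} ℤ) (MvPolynomial G (ULift.{u} ℤ)) :=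
    ⟨inferInstance, inferInstance⟩
  haveI : Algebra.Smooth (MvPolynomial G (ULift.{u} ℤ)) A := Algebra.Smooth.of_isLocalization_Away Δ
  haveI : Algebra.Smooth (ULift.{u} ℤ) A := Algebra.Smooth.comp _ (MvPolynomial G (ULift.{u} ℤ)) A
  refine ⟨Spec (CommRingCat.of A), Spec.map (CommRingCat.ofHom (algebraMap (ULift.{u} ℤ) A)),
    fun g => Spec.map (CommRingCat.ofHom (d g)), inferInstance, ?_, fun g h => ?_, ?_, fun K _ ξ g hξ => ?_,
    fun L _ v hv => ?_⟩
  · exact (HasRingHomProperty.Spec_iff (P := @Smooth)).2 (by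
      show (algebraMap (ULift.{u} ℤ) A).Smooth
      rw [RingHom.smooth_algebraMap]; infer_instance)
  · rw [← Spec.map_comp, ← CommRingCat.ofHom_comp, hdd]
  · show Spec.map (CommRingCat.ofHom (d 1)) = _
    rw [hd1, CommRingCat.ofHom_id, Spec.map_id]
  · obtain ⟨ψ, rfl⟩ := Spec.map_surjective ξ
    rw [← Spec.map_comp] at hξ
    have e : ψ.hom.comp (d g) = ψ.hom := congrArg CommRingCat.Hom.hom (Spec.map_injective hξ)
    by_contra hg
    have h1 := RingHom.congr_fun e (xA 1)
    rw [RingHom.comp_apply, hd, mul_one] at h1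
    exact ((hu g 1 hg).map ψ.hom).ne_zero (by rw [map_sub, h1, sub_self])
  · obtain ⟨ψ, hψ⟩ := hpt L v hv
    refine ⟨Spec.map (CommRingCat.ofHom ψ), fun g σ hσ => ?_⟩
    rw [← Spec.map_comp, ← Spec.map_comp, ← CommRingCat.ofHom_comp, ← CommRingCat.ofHom_comp,
      hext (σ.comp ψ) (ψ.comp (d g)) fun i => by rw [RingHom.comp_apply, RingHom.comp_apply, hψ, hd, hψ, hσ]]

end Groth.Agent.RatChart

end
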