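import Groth.Agent.RatChart.Cover
import Groth.Agent.RatChart.FreeModel
import Groth.Agent.RatChart.Galois
import Groth.Agent.HenselChart.Space
import Groth.Agent.SpQS.ConfQuot

/-!
# A free affine equivariant chart through an equivariant point
-/

set_option autoImplicit false
set_option backward.isDefEq.respectTransparency false
set_option backward.isDefEq.respectTransparency.types false
set_option linter.style.haveILetI false
universe u

noncomputable section

namespace Groth.Agent.RatChart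

open CategoryTheory CategoryTheory.Limits AlgebraicGeometry Opposite Groth.Agent.AlgSpLib Groth.Agent.ArtinAtlas
open _root_.AlgSp

variable {S : Scheme.{u}}

/-- an equivariant field point of a space with a finite group action factors through a free quotient chart -/
theorem exists_free_affine {X : Sp S} (hX : IsAlgSpace X) {U : Over S} (q : X ⟶ (yon S).obj U)
    (hq : LocP @Smooth q) {G : Type u} [Group G] [Finite G] (a : G → (X ⟶ X))
    (ha : ∀ g h, a g ≫ a h = a (g * h)) (ha₁ : a 1 = 𝟙 X) {L : Type u} [Field L]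
    (str : Spec (CommRingCat.of L) ⟶ S) (γ : G → (L →+* L)) (hγS : ∀ g, Spec.map (CommRingCat.ofHom (γ g)) ≫ str = str)
    (hγ : ∀ g h, (γ g).comp (γ h) = γ (g * h)) (hγ₁ : γ 1 = RingHom.id L) (v : G → L) (hv : Function.Injective v)
    (hγv : ∀ g i, γ g (v i) = v (g * i)) (p₀ : (yon S).obj (Over.mk str) ⟶ X)
    (hp₀ : ∀ g, (yon S).map (Over.homMk (Spec.map (CommRingCat.ofHom (γ g))) (hγS g) : Over.mk str ⟶ Over.mk str) ≫ p₀ =
      p₀ ≫ a g) :
    ∃ (W B : Over S) (π : W ⟶ B) (τ : G → (W ⟶ W)) (ρ : G →* Aut W.left) (pW : (yon S).obj W ⟶ X) (w : W ⟶ U)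
      (e : Over.mk str ⟶ W),
      IsAffine B.left ∧ SGA1.IsQuot ρ π.left ∧ QuotScheme.IsFree ρ ∧ Etale π.left ∧ Surjective π.left ∧
      (∀ g, (τ g).left = (ρ g⁻¹).hom) ∧ (∀ g h, τ g ≫ τ h = τ (g * h)) ∧
      (∀ g, (yon S).map (τ g) ≫ pW = pW ≫ a g) ∧ (yon S).map w = pW ≫ q ∧ Smooth w.left ∧
      (yon S).map e ≫ pW = p₀ ∧
      ∀ g, (Over.homMk (Spec.map (CommRingCat.ofHom (γ g))) (hγS g) : Over.mk str ⟶ Over.mk str) ≫ e = e ≫ τ g := by
  classical
  let K : Over S := Over.mk str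
  let γK : G → (K ⟶ K) := fun g => Over.homMk (Spec.map (CommRingCat.ofHom (γ g))) (hγS g)
  have hγK : ∀ g h, γK g ≫ γK h = γK (g * h) := fun g h => Over.OverMorphism.ext (by
    show Spec.map _ ≫ Spec.map _ = _
    rw [← Spec.map_comp, ← CommRingCat.ofHom_comp, hγ]
    rfl)
  have hγK₁ : γK 1 = 𝟙 K := Over.OverMorphism.ext (by
    show Spec.map _ = _
    rw [hγ₁, CommRingCat.ofHom_id, Spec.map_id]
    rfl)
  obtain ⟨C, p, t₀, hC, hp, ht₀⟩ := HenselChart.exists_affine_chart_lift L str hX p₀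
  haveI := hC
  obtain ⟨W₁, l, c, τ₁, hlc, hce, hle, hls, hττ, hτone, hτl, hτc, huniv⟩ := exists_translates hX a ha ha₁ p hp
  obtain ⟨m, hm, -⟩ := huniv (T := K) p₀ (fun g => γK g⁻¹ ≫ t₀) fun g => by
    rw [Functor.map_comp, Category.assoc, ← Category.assoc ((yon S).map t₀), ht₀, ← hp₀ g, ← Category.assoc,
      ← Functor.map_comp]
    show (yon S).map (γK g⁻¹ ≫ γK g) ≫ p₀ = p₀
    rw [hγK, inv_mul_cancel, hγK₁, CategoryTheory.Functor.map_id, Category.id_comp]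
  have hmc : (yon S).map m ≫ c = p₀ := by
    rw [← hlc 1, ← Category.assoc, ← Functor.map_comp, hm, inv_one, hγK₁, Category.id_comp, ha₁, Category.comp_id, ht₀]
  have hmτ : ∀ g, γK g ≫ m = m ≫ τ₁ g := fun g =>
    (huniv (T := K) ((yon S).map (m ≫ τ₁ g) ≫ c) (fun k => (m ≫ τ₁ g) ≫ l k) fun k => by
      rw [Functor.map_comp, Category.assoc, hlc]).unique (fun k => by
      rw [Category.assoc, hm, Category.assoc, hτl, hm, ← Category.assoc, hγK, mul_inv_rev, inv_inv]) fun k => rfl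
  -- the free model
  obtain ⟨D, tD, δ, hD, hDs, hδδ, hδone, hδfree, hδpt⟩ := exists_free_model G
  haveI := hD
  haveI := hDs
  obtain ⟨ξ, hξ⟩ := hδpt L v fun g h hgh => isUnit_iff_ne_zero.2 (sub_ne_zero.2 fun e => hgh (hv e))
  let tW : W₁.left ⟶ Spec (CommRingCat.of (ULift.{u} ℤ)) := specULiftZIsTerminal.from _
  let W₀ := pullback tW tD
  let hom₀ : W₀ ⟶ S := pullback.fst tW tD ≫ W₁.hom
  let τ₀ : G → (W₀ ⟶ W₀) := fun g => pullback.lift (pullback.fst tW tD ≫ (τ₁ g).left) (pullback.snd tW tD ≫ δ g)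
    (specULiftZIsTerminal.hom_ext _ _)
  have hτ₀₁ : ∀ g, τ₀ g ≫ pullback.fst tW tD = pullback.fst tW tD ≫ (τ₁ g).left := fun g => pullback.lift_fst _ _ _
  have hτ₀₂ : ∀ g, τ₀ g ≫ pullback.snd tW tD = pullback.snd tW tD ≫ δ g := fun g => pullback.lift_snd _ _ _
  have hτ₀m : ∀ g h, τ₀ g ≫ τ₀ h = τ₀ (g * h) := fun g h => pullback.hom_ext
    (by rw [Category.assoc, hτ₀₁, reassoc_of% (hτ₀₁ g), hτ₀₁, ← Over.comp_left, hττ])
    (by rw [Category.assoc, hτ₀₂, reassoc_of% (hτ₀₂ g), hτ₀₂, hδδ])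
  have hτ₀one : τ₀ 1 = 𝟙 W₀ := pullback.hom_ext
    (by rw [hτ₀₁, hτone, Category.id_comp, Over.id_left, Category.comp_id])
    (by rw [hτ₀₂, hδone, Category.comp_id, Category.id_comp])
  let ρ₀ := autOf τ₀ hτ₀one hτ₀m
  -- orbits lie in affine opens
  let tC : C.left ⟶ Spec (CommRingCat.of (ULift.{u} ℤ)) := specULiftZIsTerminal.from _
  let e' : W₀ ⟶ pullback tC tD := pullback.lift (pullback.fst tW tD ≫ (l 1).left) (pullback.snd tW tD)
    (specULiftZIsTerminal.hom_ext _ _)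
  have sqe : IsPullback (pullback.fst tW tD) e' (l 1).left (pullback.fst tC tD) := by
    refine IsPullback.of_bot ?_ (pullback.lift_fst _ _ _).symm (IsPullback.of_hasPullback tC tD)
    rw [pullback.lift_snd, show (l 1).left ≫ tC = tW from specULiftZIsTerminal.hom_ext _ _]
    exact IsPullback.of_hasPullback tW tD
  haveI : Etale e' := MorphismProperty.of_isPullback (P := @Etale) sqe hle
  haveI : IsSeparated e' := MorphismProperty.of_isPullback (P := @IsSeparated) sqe hls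
  let e₀ : Spec (CommRingCat.of L) ⟶ W₀ := pullback.lift m.left ξ (specULiftZIsTerminal.hom_ext _ _)
  have he₀ : ∀ g, Spec.map (CommRingCat.ofHom (γ g)) ≫ e₀ = e₀ ≫ τ₀ g := fun g => pullback.hom_ext
    (by
      rw [Category.assoc, Category.assoc, hτ₀₁, pullback.lift_fst, pullback.lift_fst_assoc]
      exact congrArg (fun k : K ⟶ W₁ => k.left) (hmτ g))
    (by
      rw [Category.assoc, Category.assoc, hτ₀₂, pullback.lift_snd, pullback.lift_snd_assoc]
      exact hξ g (γ g) (hγv g))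
  let x := e₀ (IsLocalRing.closedPoint L)
  obtain ⟨O, hO, hOF⟩ := SpQS.exists_affine_of_finite e' (Set.finite_range fun g : G => (ρ₀ g).hom x)
  obtain ⟨V, hxV, hV, hVa⟩ := QuotScheme.exists_stable_affine ρ₀ hO fun g => hOF ⟨g, rfl⟩
  haveI : IsAffine V.toScheme := hVa
  let ρ := QuotScheme.restrictAction hV
  obtain ⟨Y, π₀, hY, hπ⟩ := QuotScheme.exists_affine_isQuot ρ
  have hfree : QuotScheme.IsFree ρ := by
    intro K' _ _ η g hg
    have h1 : (η ≫ V.ι ≫ pullback.snd tW tD) ≫ δ g⁻¹ = η ≫ V.ι ≫ pullback.snd tW tD := by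
      conv_rhs => rw [← hg, Category.assoc, reassoc_of% (QuotScheme.restrictAction_ι hV g)]
      rw [Category.assoc, Category.assoc, ← hτ₀₂]
      rfl
    exact inv_eq_one.1 (hδfree K' _ _ h1)
  have hinv : ∀ g, (ρ g).hom ≫ V.ι ≫ hom₀ = V.ι ≫ hom₀ := fun g => by
    rw [reassoc_of% (QuotScheme.restrictAction_ι hV g)]
    show V.ι ≫ τ₀ g⁻¹ ≫ pullback.fst tW tD ≫ W₁.hom = _
    rw [reassoc_of% (hτ₀₁ g⁻¹), Over.w]
  obtain ⟨homB, hhomB, -⟩ := QuotScheme.existsUnique_desc hπ _ hinv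
  let W : Over S := Over.mk (V.ι ≫ hom₀)
  let τ : G → (W ⟶ W) := fun g => Over.homMk (ρ g⁻¹).hom (hinv g⁻¹)
  let j : W ⟶ W₁ := Over.homMk (V.ι ≫ pullback.fst tW tD) (Category.assoc _ _ _)
  have hτj : ∀ g, τ g ≫ j = j ≫ τ₁ g := fun g => Over.OverMorphism.ext (by
    show (ρ g⁻¹).hom ≫ V.ι ≫ pullback.fst tW tD = (V.ι ≫ pullback.fst tW tD) ≫ (τ₁ g).left
    rw [reassoc_of% (QuotScheme.restrictAction_ι hV g⁻¹)]
    show V.ι ≫ τ₀ g⁻¹⁻¹ ≫ pullback.fst tW tD = _
    rw [inv_inv, hτ₀₁, Category.assoc])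
  obtain ⟨w₁, hw₁⟩ := exists_map_eq (c ≫ q)
  haveI : Smooth w₁.left := hq c (𝟙 _) w₁ hce repWith_id' (by rw [Category.comp_id, hw₁])
  haveI : Smooth (pullback.fst tW tD) := MorphismProperty.pullback_fst (P := @Smooth) _ _ ‹_›
  have hr : Set.range e₀ ⊆ Set.range V.ι := by
    rintro _ ⟨z, rfl⟩
    rw [Scheme.Opens.range_ι, Subsingleton.elim (α := PrimeSpectrum L) z (IsLocalRing.closedPoint L)]
    exact hxV
  let e : K ⟶ W := Over.homMk (IsOpenImmersion.lift V.ι e₀ hr) (by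
    show _ ≫ V.ι ≫ pullback.fst tW tD ≫ W₁.hom = _
    rw [IsOpenImmersion.lift_fac_assoc, pullback.lift_fst_assoc, Over.w])
  have hej : e ≫ j = m := Over.OverMorphism.ext (by
    show IsOpenImmersion.lift V.ι e₀ hr ≫ V.ι ≫ pullback.fst tW tD = _
    rw [IsOpenImmersion.lift_fac_assoc, pullback.lift_fst])
  have := QuotScheme.etaleHom_of_free hπ hfree
  refine ⟨W, Over.mk homB, Over.homMk π₀ hhomB, τ, ρ, (yon S).map j ≫ c, j ≫ w₁, e, hY, hπ, hfree, this,
    ⟨QuotScheme.surjective hπ⟩, fun g => rfl, fun g h => Over.OverMorphism.ext ?_, fun g => ?_, ?_, ?_, ?_, fun g => ?_⟩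
  · show (ρ g⁻¹).hom ≫ (ρ h⁻¹).hom = (ρ (g * h)⁻¹).hom
    rw [mul_inv_rev, QuotScheme.rho_mul_hom]
  · rw [← Category.assoc, ← Functor.map_comp, hτj, Functor.map_comp, Category.assoc, hτc, Category.assoc]
  · rw [Functor.map_comp, hw₁, Category.assoc]
  · exact inferInstanceAs (Smooth ((V.ι ≫ pullback.fst tW tD) ≫ w₁.left))
  · rw [← Category.assoc, ← Functor.map_comp, hej, hmc]
  · refine Over.OverMorphism.ext ?_
    show Spec.map _ ≫ IsOpenImmersion.lift V.ι e₀ hr = IsOpenImmersion.lift V.ι e₀ hr ≫ (ρ g⁻¹).hom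
    rw [← cancel_mono V.ι, Category.assoc, Category.assoc, QuotScheme.restrictAction_ι hV g⁻¹,
      IsOpenImmersion.lift_fac, IsOpenImmersion.lift_fac_assoc]
    show _ = e₀ ≫ τ₀ g⁻¹⁻¹
    rw [inv_inv, he₀]

end Groth.Agent.RatChart

end
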