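import Groth.Agent.RatChart.Desc
import Groth.Agent.RatChart.Free
import Groth.Agent.AlgStLib.PointsBasic
import Mathlib.FieldTheory.Galois.Infinite
import Mathlib.FieldTheory.PrimitiveElement

/-!
# Field points of algebraic stacks lift to smooth affine charts
-/

set_option autoImplicit false
set_option backward.isDefEq.respectTransparency false
set_option backward.isDefEq.respectTransparency.types false
set_option linter.style.haveILetI false
universe v₂ u₂ u

noncomputable section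

namespace Groth.Agent.RatChart

open CategoryTheory CategoryTheory.Limits AlgebraicGeometry Opposite Groth.Agent.AlgSpLib Groth.Agent.ArtinAtlas
open _root_.AlgSp _root_.AlgSt

variable {S : Scheme.{u}} {𝒳 : BasedCategory.{v₂, u₂} (Over S)}

/-- every field point lifts to a smooth chart with affine source -/
theorem exists_field_chart (hX : FibCat.IsFibGrpd 𝒳.p)
    (hst : ∀ {T B : Over S} (q : T ⟶ B), Etale q.left → Surjective q.left → Stk.IsStackFor (cov q) 𝒳)
    (hrep : ∀ (V : Over S) (c : FibCat.overCat V ⥤ᵇ 𝒳), RepByAlgSp1 c) (hat : HasAtlas (LocP @Smooth) 𝒳)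
    (k : Type u) [Field k] (str : Spec (CommRingCat.of k) ⟶ S) (z : FibCat.overCat (Over.mk str) ⥤ᵇ 𝒳) :
    ∃ (Z : Over S) (_ : IsAffine Z.left) (c : FibCat.overCat Z ⥤ᵇ 𝒳) (g : Over.mk str ⟶ Z),
      RepByAlgSpWith (LocP @Smooth) c ∧ Nonempty (Hom2 c z g (𝟙 (Over.mk str))) := by
  classical
  obtain ⟨U, x, hx, hxs⟩ := hat
  obtain ⟨L, _, _, _, _, t, ⟨ψ⟩⟩ := exists_galois_point hX hx hxs k str z
  let G := L ≃ₐ[k] L
  let strL : Spec (CommRingCat.of L) ⟶ S := Spec.map (CommRingCat.ofHom (algebraMap k L)) ≫ str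
  let K : Over S := Over.mk strL
  let T : Over S := Over.mk str
  let kL : K ⟶ T := Over.homMk (Spec.map (CommRingCat.ofHom (algebraMap k L))) rfl
  let γ : G → (L →+* L) := fun g => g.toRingEquiv.toRingHom
  have hγS : ∀ g, Spec.map (CommRingCat.ofHom (γ g)) ≫ strL = strL := fun g => by
    rw [← Category.assoc, ← Spec.map_comp]
    congr 2
    exact CommRingCat.hom_ext (RingHom.ext fun c => g.commutes c)
  let γK : G → (K ⟶ K) := fun g => Over.homMk (Spec.map (CommRingCat.ofHom (γ g))) (hγS g)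
  have hγK : ∀ g h, γK g ≫ γK h = γK (g * h) := fun g h => Over.OverMorphism.ext (by
    show Spec.map _ ≫ Spec.map _ = _
    rw [← Spec.map_comp]
    rfl)
  have hγkL : ∀ g, γK g ≫ kL = kL := fun g => Over.OverMorphism.ext (by
    show Spec.map _ ≫ Spec.map _ = _
    rw [← Spec.map_comp]
    congr 1
    exact CommRingCat.hom_ext (RingHom.ext fun c => g.commutes c))
  -- the family of conjugate points
  choose ψi hψi using fun i : G =>
    (Hom2.exists_res hX ψ (γK i) kL (γK i ≫ t) (hγkL i) rfl).exists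
  let s₀ : Tup x G K :=
    { u := fun i => γK i ≫ t
      θ := fun i j => ((ψi i).inv hX).comp (ψi j)
      coc := fun i j l => by rw [Hom2.comp_assoc, ← Hom2.comp_assoc (ψi j), Hom2.comp_inv, Hom2.refl_comp] }
  have hψγ : ∀ h i, Hom2.Res (γK h) (ψi i) (ψi (h * i)) := fun h i =>
    (hψi i).of_comp hX (by rw [hγK]; exact hψi (h * i))
  have hs₀ : ∀ h, Tup.Res (γK h) s₀ (s₀.relabel fun i => h * i) := fun h i j =>
    Hom2.res_comp (Hom2.res_inv hX (hψγ h i)) (hψγ h j)
  obtain ⟨P⟩ := exists_powSp (ι := G) hX hx (1 : G)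
  obtain ⟨a, hcl, haa, haone⟩ := P.exists_relabel hX
  let aG : G → (P.F ⟶ P.F) := fun g => a (fun i => g * i)
  have haG : ∀ g h, aG g ≫ aG h = aG (g * h) := fun g h => by
    show a _ ≫ a _ = a _
    rw [haa]
    congr 1
  have haG₁ : aG 1 = 𝟙 P.F := by
    show a _ = _
    rw [show (fun i : G => 1 * i) = id from funext one_mul, haone]
  obtain ⟨p₀, hp₀, -⟩ := P.existsUnique s₀
  have hp₀γ : ∀ g, (yon S).map (γK g) ≫ p₀ = p₀ ≫ aG g := fun g =>
    (P.existsUnique _).unique (P.natural (γK g) hp₀ (hs₀ g)) (hcl _ hp₀)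
  obtain ⟨α, hα⟩ := Field.exists_primitive_element k L
  obtain ⟨W, B, π, τ, ρ, pW, w, e, hB, hq, hfree, hπe, hπs, hτρ, hττ, hpW, hw, hws, hep, heγ⟩ :=
    exists_free_affine P.isAlgSpace P.pr P.smooth aG haG haG₁ strL γ hγS (fun g h => rfl) rfl
      (fun g : G => g α) (fun g g' hgg => by
        apply AlgEquiv.coe_toAlgHom_injective
        refine AlgHom.ext_of_adjoin_eq_top (s := {α}) ?_ (by
          rintro y rfl
          exact hgg)
        exact IntermediateField.adjoin_eq_top_iff.1 hα)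
      (fun g i => rfl) p₀ hp₀γ
  obtain ⟨s, hs⟩ := P.exists_cl pW
  have hsW : ∀ g, Tup.Res (τ g) s (s.relabel fun i => g * i) := fun g => res_of_equivariant hX P hcl hs (hpW g)
  have hsw : s.u 1 = w := (yon S).map_injective (by rw [hw, P.pr_eq hs])
  have hse : Tup.Res e s s₀ := by
    obtain ⟨s', hs'⟩ := Tup.exists_res hX e s
    have h1 := P.natural e hs hs'
    rw [hep] at h1
    intro i j
    have := (hs' i j).trans (P.unique h1 hp₀ i j)
    rwa [Category.id_comp] at this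
  haveI := hπe
  haveI := hπs
  obtain ⟨c, φ, hc, hφ⟩ := exists_descended hX hst hx hrep π τ ρ hq hfree hτρ hττ s hsW (hsw ▸ hws)
  -- the quotient of the Galois extension
  let ρK : G →* Aut (Spec (CommRingCat.of L)) := autOf (fun g => (γK g).left)
    (by show Spec.map _ = _; rw [← Spec.map_id]; rfl) (fun g h => congrArg (fun m : K ⟶ K => m.left) (hγK g h))
  obtain ⟨hqK, hfreeK⟩ := isQuot_galois k L ρK fun g => rfl
  have hρK : ∀ g, (γK g).left = (ρK g⁻¹).hom := fun g => by
    rw [autOf_hom, inv_inv]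
  obtain ⟨T₂, pr₁, pr₂, inc, sq, hi₁, hi₂, hio, hicov, -, -⟩ := exists_graphs kL γK ρK hρK hqK hfreeK
  have hinv : ∀ g, (ρK g).hom ≫ (e ≫ π).left = (e ≫ π).left := fun g => by
    show (γK g⁻¹).left ≫ _ = _
    rw [← Over.comp_left, ← Category.assoc, heγ, Category.assoc]
    have : τ g⁻¹ ≫ π = π := Over.OverMorphism.ext (by
      show (τ g⁻¹).left ≫ π.left = π.left
      rw [hτρ, hq.inv])
    rw [this]
  obtain ⟨gk₀, hgk₀, -⟩ := QuotScheme.existsUnique_desc hqK _ hinv
  haveI hkepi := QuotScheme.epi hqK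
  let gk : T ⟶ B := Over.homMk gk₀ (by
    rw [← cancel_epi (Spec.map (CommRingCat.ofHom (algebraMap k L))), ← Category.assoc, hgk₀]
    exact Over.w (e ≫ π))
  have hgk : kL ≫ gk = e ≫ π := Over.OverMorphism.ext hgk₀
  -- the isomorphism over the extension
  obtain ⟨φK, hφK, -⟩ := Hom2.exists_res hX φ e (kL ≫ gk) (s₀.u 1) hgk.symm (hse.u_eq 1)
  let χ : Hom2 c z (kL ≫ gk) kL := φK.comp ((ψi 1).inv hX)
  have hχ : ∀ h, Hom2.Res (γK h) χ χ := by
    intro h
    have e₁ : Hom2.Res (e ≫ τ h) φ (φK.comp (s₀.θ 1 h)) := (hφ h).trans (Hom2.res_comp hφK (hse 1 h))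
    rw [← heγ] at e₁
    have e₂ := hφK.of_comp hX e₁
    have e₃ := hψγ h 1
    rw [mul_one] at e₃
    have e₄ := Hom2.res_comp e₂ (Hom2.res_inv hX e₃)
    have e₅ : (φK.comp (s₀.θ 1 h)).comp ((ψi h).inv hX) = χ := by
      show (φK.comp (((ψi 1).inv hX).comp (ψi h))).comp _ = _
      rw [Hom2.comp_assoc, Hom2.comp_assoc, Hom2.comp_inv, Hom2.comp_refl]
    rw [e₅] at e₄
    exact e₄
  have hzrep : RepByAlgSp1 z := hrep T z
  obtain ⟨D, -⟩ := exists_pairSp hX c hzrep
  haveI : Flat kL.left := by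
    have : Etale kL.left := QuotScheme.etaleHom_of_free hqK hfreeK
    infer_instance
  haveI : LocallyOfFinitePresentation kL.left := by
    have : Etale kL.left := QuotScheme.etaleHom_of_free hqK hfreeK
    infer_instance
  haveI : Surjective kL.left := ⟨QuotScheme.surjective hqK⟩
  obtain ⟨θ, -, -⟩ := exists_desc_hom2_of_stackFor hX kL
    (hst kL (QuotScheme.etaleHom_of_free hqK hfreeK) ⟨QuotScheme.surjective hqK⟩) sq χ (a₀ := gk) (b₀ := 𝟙 T) rfl (Category.comp_id _)
    fun {a' b'} ψ₁ ψ₂ r₁ r₂ => hom2_ext_cover hX D inc hio (fun t => hicov t) fun g =>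
      ⟨_, _, χ, r₁.of_comp hX (by rw [hi₁]; exact Hom2.res_id χ), r₂.of_comp hX (by rw [hi₂]; exact hχ g)⟩
  exact ⟨B, hB, c, gk, hc, ⟨θ⟩⟩

end Groth.Agent.RatChart

end
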