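import Groth.Agent.RatChart.Field
import Groth.Agent.RatChart.Lifts
import Groth.Agent.RatChart.Classes
import Groth.Agent.RatChart.EtaleCov
import Groth.Agent.HenselChart.Family
import Groth.Agent.ArtinAtlas.Sigma
import Groth.Agent.Hensel.Ops

/-!
# Henselian points of algebraic stacks lift to smooth charts
-/

set_option autoImplicit false
set_option backward.isDefEq.respectTransparency false
set_option backward.isDefEq.respectTransparency.types false
set_option linter.style.haveILetI false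
universe u

noncomputable section

namespace Groth.Agent.RatChart

open CategoryTheory CategoryTheory.Limits AlgebraicGeometry Opposite Groth.Agent.AlgSpLib Groth.Agent.ArtinAtlas
  Groth.Agent.AlgStLib IsLocalRing
open _root_.AlgSp _root_.AlgSt

variable {S : Scheme.{u}} {𝒵 : AlgSt.Cat S}

/-- henselian points lift to smooth affine charts -/
theorem exists_henselian_chart (h𝒵 : IsAlgStack Scheme.fppfPrecoverage 𝒵) (R : Type u) [CommRing R]
    [HenselianLocalRing R] (str : Spec (CommRingCat.of R) ⟶ S) (z : FibCat.overCat (Over.mk str) ⥤ᵇ 𝒵) :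
    ∃ (Z : Over S) (_ : IsAffine Z.left) (c : FibCat.overCat Z ⥤ᵇ 𝒵) (g : Over.mk str ⟶ Z),
      RepByAlgSpWith (LocP @Smooth) c ∧ Nonempty (Hom2 c z g (𝟙 (Over.mk str))) := by
  let T₀ : Over S := Over.mk (Spec.map (CommRingCat.ofHom (residue R)) ≫ str)
  let j : T₀ ⟶ Over.mk str := Over.homMk (Spec.map (CommRingCat.ofHom (residue R))) rfl
  obtain ⟨Z, hZ, c, g₀, hc, ⟨θ⟩⟩ := exists_field_chart h𝒵.isStack.1 (isStackFor_of_fppf h𝒵.isStack) (repByAlgSp1_chart h𝒵) h𝒵.atlas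
    (ResidueField R) _ (BasedFunctor.comp (AlgSt.overMap j) z)
  obtain ⟨g, hg⟩ := exists_hom2_lift h𝒵.isStack.1 hc R str (maximalIdeal R) (maximalIdeal.isMaximal R).ne_top
    ((Hom2.ofMap' θ).cast rfl (Category.id_comp j))
  exact ⟨Z, hZ, c, g, hc, hg⟩

/-- a separated smooth chart lifting all points over quotients of a henselian local ring -/
theorem exists_all_quotient_chart (h𝒵 : IsAlgStack Scheme.fppfPrecoverage 𝒵) (R : Type u) [CommRing R]
    [HenselianLocalRing R] (str : Spec (CommRingCat.of R) ⟶ S) :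
    ∃ (Z : Over S) (p : FibCat.overCat Z ⥤ᵇ 𝒵), IsSeparated Z.hom ∧ RepByAlgSpWith (LocP @Smooth) p ∧
      ∀ (a : Ideal R) (y : FibCat.overCat (Over.mk (Spec.map (CommRingCat.ofHom (Ideal.Quotient.mk a)) ≫ str)) ⥤ᵇ 𝒵),
        ∃ g : Over.mk (Spec.map (CommRingCat.ofHom (Ideal.Quotient.mk a)) ≫ str) ⟶ Z,
          Nonempty (BasedFunctor.comp (AlgSt.overMap g) p ≅ y) := by
  classical
  have hX := h𝒵.isStack.1
  have hrep := repByAlgSp1_chart h𝒵
  let q : Over S := Over.mk (Spec.map (CommRingCat.ofHom (residue R)) ≫ str)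
  obtain ⟨ι, zs, hzs⟩ := exists_small_classes h𝒵.isStack hrep h𝒵.atlas (ResidueField R)
    (Spec.map (CommRingCat.ofHom (residue R)) ≫ str)
  choose Zi hZi ci gi hci hθi using fun i => exists_field_chart h𝒵.isStack.1 (isStackFor_of_fppf h𝒵.isStack) hrep h𝒵.atlas (ResidueField R)
    (Spec.map (CommRingCat.ofHom (residue R)) ≫ str) (zs i)
  obtain ⟨M, inc, G, φ, hio, hicov, hφn⟩ := exists_sigma_chart h𝒵.isStack Zi ci
  let f : ∀ i, (Zi i).left ⟶ S := fun i => (Zi i).hom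
  let M' : Over S := Over.mk (Sigma.desc f)
  let σ : ∀ i, Zi i ⟶ M' := fun i => Over.homMk (Sigma.ι (fun i => (Zi i).left) i) (Sigma.ι_desc f i)
  let h : M' ⟶ M := Over.homMk (Sigma.desc fun i => (inc i).left) (Sigma.hom_ext _ _ fun i => by
    simp [M', f])
  have hσ : ∀ i, σ i ≫ h = inc i := fun i => Over.OverMorphism.ext (Sigma.ι_desc (fun i => (inc i).left) i)
  let p : FibCat.overCat M' ⥤ᵇ 𝒵 := BasedFunctor.comp (AlgSt.overMap h) G
  have hφ : ∀ {i : ι} {V : Over S} (g : V ⟶ Zi i), Nonempty (Hom2 p (ci i) (g ≫ σ i) g) := fun {i V} g =>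
    ⟨Hom2.toMap ((φ g).cast (by rw [Category.assoc, hσ]) rfl)⟩
  refine ⟨M', p, HenselChart.isSeparated_sigma_desc f fun i => ?_, ?_, fun a y => ?_⟩
  · haveI := hZi i
    haveI : IsSeparated (f i ≫ terminal.from S) := inferInstance
    exact IsSeparated.of_comp (f i) (terminal.from S)
  · haveI := respectsIso_locP (S := S) @Smooth
    refine repWith_locP_of_charts etST_smooth hX (hrep M' p) fun T z' D Φ => ?_
    refine prop_of_etale_cover etST_smooth _ fun c₀ => ?_
    obtain ⟨i, w, hw⟩ : ∃ i, ∃ w : (Zi i).left, (σ i).left w = Φ.b.left c₀ :=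
      ⟨_, (sigmaOpenCover fun i => (Zi i).left).covers _⟩
    haveI : IsOpenImmersion (σ i).left := inferInstanceAs (IsOpenImmersion (Sigma.ι (fun i => (Zi i).left) i))
    haveI : Mono (σ i) := (Over.forget S).mono_of_mono_map (inferInstanceAs (Mono (σ i).left))
    let O : Φ.C.left.Opens := Φ.b.left ⁻¹ᵁ (σ i).left.opensRange
    let C : Over S := Over.mk (O.ι ≫ Φ.C.hom)
    let o : C ⟶ Φ.C := Over.homMk O.ι rfl
    haveI : IsOpenImmersion o.left := inferInstanceAs (IsOpenImmersion O.ι)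
    let m₀ : O.toScheme ⟶ (Zi i).left := IsOpenImmersion.lift (σ i).left (O.ι ≫ Φ.b.left) (by
      rintro _ ⟨t, rfl⟩
      exact t.2)
    have hm₀ : m₀ ≫ (σ i).left = O.ι ≫ Φ.b.left := IsOpenImmersion.lift_fac _ _ _
    let m : C ⟶ Zi i := Over.homMk m₀ (by
      show m₀ ≫ (Zi i).hom = O.ι ≫ Φ.C.hom
      rw [← Over.w Φ.b, ← Category.assoc, ← hm₀, Category.assoc, Over.w (σ i)])
    have hm : m ≫ σ i = o ≫ Φ.b := Over.OverMorphism.ext hm₀
    obtain ⟨θ', hθ', -⟩ := Hom2.exists_res hX Φ.θ o (o ≫ Φ.a) (m ≫ σ i) rfl hm.symm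
    obtain ⟨χ⟩ := hφ (i := i) (𝟙 (Zi i))
    obtain ⟨e⟩ := nonempty_iso_of_top hX (BasedFunctor.comp (AlgSt.overMap (σ i)) p) (ci i)
      χ.hom (χ.map.trans rfl)
    have hpi : RepByAlgSpWith (LocP @Smooth) (BasedFunctor.comp (AlgSt.overMap (σ i)) p) :=
      (repWith_iff_of_equiv (LocP @Smooth) (BasedFunctor.comp (AlgSt.overMap (σ i)) p) (ci i)
        (BasedFunctor.id _) (BasedFunctor.id 𝒵) FibCat2Misc.isEquivOver_id FibCat2Misc.isEquivOver_id e.symm).2 (hci i)
    exact ⟨O.toScheme, O.ι, inferInstance, ⟨⟨c₀, ⟨w, hw⟩⟩, rfl⟩, prop_of_liftable etST_smooth hX hpi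
      (Liftable.toMap' (Liftable.of_openImmersion hX (Chart.liftable hX Φ) o hθ'))⟩
  by_cases ha : a = ⊤
  · subst ha
    let Te : Over S := Over.mk (Spec.map (CommRingCat.ofHom (Ideal.Quotient.mk (⊤ : Ideal R))) ≫ str)
    haveI : Subsingleton (R ⧸ (⊤ : Ideal R)) := Ideal.Quotient.subsingleton_iff.2 rfl
    haveI : IsEmpty Te.left := inferInstanceAs (IsEmpty (PrimeSpectrum (R ⧸ (⊤ : Ideal R))))
    let g : Te ⟶ M' := Over.homMk (isInitialOfIsEmpty.to _) (isInitialOfIsEmpty.hom_ext _ _)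
    obtain ⟨θ, -⟩ := existsUnique_hom2_of_isEmpty h𝒵.isStack (x := p) (y := y) g (𝟙 Te)
    exact ⟨g, nonempty_iso_of_hom2 hX θ⟩
  haveI : Nontrivial (R ⧸ a) := Ideal.Quotient.nontrivial_iff.2 ha
  haveI : IsLocalRing (R ⧸ a) := .of_surjective' (Ideal.Quotient.mk a) Ideal.Quotient.mk_surjective
  haveI : HenselianLocalRing (R ⧸ a) := Groth.Agent.Hensel.henselianLocalRing_finite R (R ⧸ a)
  haveI : IsLocalHom (Ideal.Quotient.mk a) := IsLocalHom.of_surjective _ Ideal.Quotient.mk_surjective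
  let ψ : ResidueField R →+* ResidueField (R ⧸ a) := ResidueField.map (Ideal.Quotient.mk a)
  have hψ : Function.Bijective ψ := ⟨ψ.injective, fun z => by
    obtain ⟨z, rfl⟩ := residue_surjective z
    obtain ⟨r, rfl⟩ := Ideal.Quotient.mk_surjective z
    exact ⟨residue R r, rfl⟩⟩
  let E := RingEquiv.ofBijective ψ hψ
  let T : Over S := Over.mk (Spec.map (CommRingCat.ofHom (Ideal.Quotient.mk a)) ≫ str)
  let qa : Over S := Over.mk (Spec.map (CommRingCat.ofHom (residue (R ⧸ a))) ≫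
    Spec.map (CommRingCat.ofHom (Ideal.Quotient.mk a)) ≫ str)
  let e : qa ⟶ q := Over.homMk (Spec.map (CommRingCat.ofHom (E : ResidueField R →+* ResidueField (R ⧸ a)))) (by
    show Spec.map _ ≫ Spec.map _ ≫ str = Spec.map _ ≫ Spec.map _ ≫ str
    rw [← Category.assoc, ← Category.assoc, ← Spec.map_comp, ← Spec.map_comp]
    exact congrArg (fun m => Spec.map m ≫ str) (CommRingCat.hom_ext (RingHom.ext fun r => rfl)))
  let e' : q ⟶ qa := Over.homMk (Spec.map (CommRingCat.ofHom (E.symm : ResidueField (R ⧸ a) →+* ResidueField R))) (by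
    show Spec.map _ ≫ Spec.map _ ≫ Spec.map _ ≫ str = Spec.map _ ≫ str
    rw [← Category.assoc, ← Category.assoc, ← Spec.map_comp, ← Spec.map_comp]
    exact congrArg (fun m => Spec.map m ≫ str) (CommRingCat.hom_ext (RingHom.ext fun r => E.symm_apply_apply (residue R r))))
  have hee : e ≫ e' = 𝟙 qa := Over.OverMorphism.ext (by
    show Spec.map _ ≫ Spec.map _ = 𝟙 _
    rw [← Spec.map_comp, ← Spec.map_id]
    exact congrArg Spec.map (CommRingCat.hom_ext (RingHom.ext fun r => E.apply_symm_apply r)))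
  let j : qa ⟶ T := Over.homMk (Spec.map (CommRingCat.ofHom (residue (R ⧸ a)))) rfl
  obtain ⟨i, ⟨α⟩⟩ := hzs (BasedFunctor.comp (AlgSt.overMap (e' ≫ j)) y)
  obtain ⟨θi⟩ := hθi i
  let β : Hom2 (ci i) y (gi i) (e' ≫ j) := (Hom2.ofMap' (θi.comp α)).cast rfl (Category.id_comp _)
  obtain ⟨β', -, -⟩ := Hom2.exists_res hX β e (e ≫ gi i) j rfl
    (by rw [← Category.assoc, hee, Category.id_comp])
  obtain ⟨g, ⟨θ⟩⟩ := exists_hom2_lift hX (hci i) (R ⧸ a) (Spec.map (CommRingCat.ofHom (Ideal.Quotient.mk a)) ≫ str)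
    (maximalIdeal (R ⧸ a)) (maximalIdeal.isMaximal _).ne_top β'
  obtain ⟨χ⟩ := hφ (i := i) g
  exact ⟨g ≫ σ i, nonempty_iso_of_hom2 hX (χ.comp θ)⟩

end Groth.Agent.RatChart

end
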