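import Groth.Agent.RatChart.Prod
import Groth.Agent.ArtinAtlas.Setup

/-!
# Spaces of families of isomorphic points of a chart
-/

set_option autoImplicit false
set_option backward.isDefEq.respectTransparency false
set_option backward.isDefEq.respectTransparency.types false
set_option linter.style.haveILetI false
universe v₂ u₂ u

noncomputable section

namespace Groth.Agent.RatChart

open CategoryTheory CategoryTheory.Limits AlgebraicGeometry Opposite Groth.Agent.AlgSpLib Groth.Agent.ArtinAtlas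
open _root_.AlgSp _root_.AlgSt

variable {S : Scheme.{u}} {𝒳 : BasedCategory.{v₂, u₂} (Over S)} {U : Over S}
  (x : FibCat.overCat U ⥤ᵇ 𝒳) (ι : Type u)

/-- a family of points of a chart with compatible isomorphisms between them -/
structure Tup (T : Over S) where
  /-- the points -/
  u : ι → (T ⟶ U)
  /-- the isomorphisms -/
  θ : ∀ i j, Hom2 x x (u i) (u j)
  coc : ∀ i j l, (θ i j).comp (θ j l) = θ i l

variable {x ι}

/-- change of the index -/
def Tup.relabel {T : Over S} (s : Tup x ι T) (e : ι → ι) : Tup x ι T where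
  u i := s.u (e i)
  θ i j := s.θ (e i) (e j)
  coc i j l := s.coc (e i) (e j) (e l)

/-- restriction of families -/
def Tup.Res {T T' : Over S} (f : T' ⟶ T) (s : Tup x ι T) (s' : Tup x ι T') : Prop :=
  ∀ i j, Hom2.Res f (s.θ i j) (s'.θ i j)

theorem Tup.Res.relabel {T T' : Over S} {f : T' ⟶ T} {s : Tup x ι T} {s' : Tup x ι T'} (h : Tup.Res f s s')
    (e : ι → ι) : Tup.Res f (s.relabel e) (s'.relabel e) := fun i j => h (e i) (e j)

theorem Tup.Res.trans {T T' T'' : Over S} {f : T' ⟶ T} {g : T'' ⟶ T'} {s : Tup x ι T} {s' : Tup x ι T'}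
    {s'' : Tup x ι T''} (h : Tup.Res f s s') (h' : Tup.Res g s' s'') : Tup.Res (g ≫ f) s s'' :=
  fun i j => (h i j).trans (h' i j)

theorem Tup.Res.u_eq {T T' : Over S} {f : T' ⟶ T} {s : Tup x ι T} {s' : Tup x ι T'} (h : Tup.Res f s s') (i : ι) :
    f ≫ s.u i = s'.u i :=
  (h i i).1

theorem Hom2.res_of_eq (hX : FibCat.IsFibGrpd 𝒳.p) {T : Over S} {a b c : T ⟶ U} (h : a = b) {θ₀ : Hom2 x x a b}
    (e : θ₀ = Hom2.ofEq h) (θ : Hom2 x x a c) : Hom2.Res (𝟙 T) θ ((θ₀.inv hX).comp θ) := by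
  subst h
  have hr : θ₀ = Hom2.refl a := e.trans (Hom2.ext rfl)
  have : θ₀.inv hX = Hom2.refl a := by
    have h1 := Hom2.inv_comp hX θ₀
    rwa [show (θ₀.inv hX).comp θ₀ = θ₀.inv hX by rw [hr]; exact Hom2.comp_refl _] at h1
  rw [this, Hom2.refl_comp]
  exact Hom2.res_id θ

theorem Tup.θ_refl (hX : FibCat.IsFibGrpd 𝒳.p) {T : Over S} (s : Tup x ι T) (i : ι) :
    s.θ i i = Hom2.refl (s.u i) := by
  have h := s.coc i i i
  have h1 := congrArg (fun t => ((s.θ i i).inv hX).comp t) h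
  simp only [← Hom2.comp_assoc, Hom2.inv_comp, Hom2.refl_comp] at h1
  exact h1

/-- restriction is detected on the isomorphisms out of one index -/
theorem Tup.res_of_base (hX : FibCat.IsFibGrpd 𝒳.p) {T T' : Over S} {f : T' ⟶ T} {s : Tup x ι T}
    {s' : Tup x ι T'} (i₀ : ι) (h : ∀ j, Hom2.Res f (s.θ i₀ j) (s'.θ i₀ j)) : Tup.Res f s s' := by
  intro i j
  have key : ∀ {V : Over S} (t : Tup x ι V), ((t.θ i₀ i).inv hX).comp (t.θ i₀ j) = t.θ i j := fun t => by
    rw [← t.coc i₀ i j, ← Hom2.comp_assoc, Hom2.inv_comp, Hom2.refl_comp]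
  rw [← key s, ← key s']
  exact Hom2.res_comp (Hom2.res_inv hX (h i)) (h j)

theorem Tup.res_id {T : Over S} (s : Tup x ι T) : Tup.Res (𝟙 T) s s := fun i j => Hom2.res_id _

theorem Tup.Res.unique (hX : FibCat.IsFibGrpd 𝒳.p) {T T' : Over S} {f : T' ⟶ T} {s : Tup x ι T}
    {s' s'' : Tup x ι T'} (h : Tup.Res f s s') (h' : Tup.Res f s s'') : Tup.Res (𝟙 T') s' s'' := by
  intro i j
  obtain ⟨θ, hθ, -⟩ := Hom2.exists_res hX (s'.θ i j) (𝟙 T') (s''.u i) (s''.u j)
    (by rw [Category.id_comp, ← (h i j).1, (h' i j).1]) (by rw [Category.id_comp, ← (h i j).2.1, (h' i j).2.1])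
  have := (h i j).trans hθ
  rw [Category.id_comp] at this
  rwa [(h' i j).unique hX this]

theorem Tup.exists_res (hX : FibCat.IsFibGrpd 𝒳.p) {T T' : Over S} (f : T' ⟶ T) (s : Tup x ι T) :
    ∃ s' : Tup x ι T', Tup.Res f s s' := by
  refine ⟨⟨fun i => f ≫ s.u i, fun i j => (s.θ i j).res hX f, fun i j l => ?_⟩, fun i j => (s.θ i j).res_spec hX f⟩
  have h := Hom2.res_comp ((s.θ i j).res_spec hX f) ((s.θ j l).res_spec hX f)
  rw [s.coc] at h
  exact h.unique hX ((s.θ i l).res_spec hX f)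

variable (x ι)

/-- an algebraic space classifying families of isomorphic points -/
structure PowSp (i₀ : ι) where
  /-- the space -/
  F : Sp S
  isAlgSpace : IsAlgSpace F
  /-- the point of the distinguished index -/
  pr : F ⟶ (yon S).obj U
  smooth : LocP @Smooth pr
  /-- a point classifies a family -/
  Cl : ∀ {T : Over S}, ((yon S).obj T ⟶ F) → Tup x ι T → Prop
  pr_eq : ∀ {T : Over S} {p : (yon S).obj T ⟶ F} {s : Tup x ι T}, Cl p s → p ≫ pr = (yon S).map (s.u i₀)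
  exists_cl : ∀ {T : Over S} (p : (yon S).obj T ⟶ F), ∃ s : Tup x ι T, Cl p s
  existsUnique : ∀ {T : Over S} (s : Tup x ι T), ∃! p, Cl p s
  unique : ∀ {T : Over S} {p : (yon S).obj T ⟶ F} {s s' : Tup x ι T}, Cl p s → Cl p s' → Tup.Res (𝟙 T) s s'
  natural : ∀ {T T' : Over S} (f : T' ⟶ T) {p : (yon S).obj T ⟶ F} {s : Tup x ι T} {s' : Tup x ι T'},
    Cl p s → Tup.Res f s s' → Cl ((yon S).map f ≫ p) s'

variable {x ι}

theorem PowSp.congr {i₀ : ι} (P : PowSp x ι i₀) {T : Over S} {p : (yon S).obj T ⟶ P.F} {s s' : Tup x ι T}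
    (h : P.Cl p s) (e : Tup.Res (𝟙 T) s s') : P.Cl p s' := by
  have := P.natural (𝟙 T) h e
  rwa [CategoryTheory.Functor.map_id, Category.id_comp] at this

theorem exists_powSp [Finite ι] (hX : FibCat.IsFibGrpd 𝒳.p)
    (hx : RepByAlgSpWith (LocP @Smooth) x) (i₀ : ι) : Nonempty (PowSp x ι i₀) := by
  classical
  haveI := respectsIso_locP (S := S) @Smooth
  obtain ⟨D, hD⟩ := exists_pairSp hX x (AlgStLib.repByAlgSp1_of_with hx)
  have hD' : LocP @Smooth D.pr₁ := hD _ inferInstance hx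
  obtain ⟨P, q, pr, hP, hq, hw, hu⟩ := exists_wide (IsAlgSpace.yon_obj U) (J := {i : ι // i ≠ i₀})
    (fun _ => D.F) (fun _ => D.pr₁) (fun _ => D.isAlgSpace) (fun _ => hD')
  let Cl : ∀ {T : Over S}, ((yon S).obj T ⟶ P) → Tup x ι T → Prop := fun {T} p s =>
    p ≫ q = (yon S).map (s.u i₀) ∧ ∀ j : {i : ι // i ≠ i₀}, D.Cl (sec (p ≫ pr j)) (s.θ i₀ j.1)
  refine ⟨⟨P, hP, q, hq, fun {T} => Cl (T := T), fun {T p s} h => h.1, fun {T} p => ?_, fun {T} s => ?_,
    fun {T p s s'} h h' => ?_, fun {T T'} f {p s s'} h hr => ?_⟩⟩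
  · obtain ⟨a, ha⟩ := exists_map_eq (p ≫ q)
    have hb : ∀ i, ∃ (b : T ⟶ U) (θ : Hom2 x x a b),
        (∀ h : i ≠ i₀, D.Cl (sec (p ≫ pr ⟨i, h⟩)) θ) ∧ (i = i₀ → ∃ h : a = b, θ = Hom2.ofEq h) := by
      intro i
      by_cases h : i = i₀
      · exact ⟨a, Hom2.ofEq rfl, fun h' => absurd h h', fun _ => ⟨rfl, rfl⟩⟩
      · obtain ⟨a', b, θ, hθ⟩ := D.exists_cl (sec (p ≫ pr ⟨i, h⟩))
        have e : a' = a := by
          have := D.pr₁_eq hθ
          rw [← this]
          have e2 : (sec ((p ≫ pr ⟨i, h⟩) ≫ D.pr₁) : ULift.{u + 1} (T ⟶ U)).down = a := by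
            rw [Category.assoc, hw, ← ha]
            exact Category.id_comp a
          exact e2
        subst e
        exact ⟨b, θ, fun _ => hθ, fun h' => absurd h' h⟩
    choose b θ0 h1 h2 using hb
    refine ⟨⟨b, fun i j => ((θ0 i).inv hX).comp (θ0 j), fun i j l => ?_⟩, ?_, fun j => ?_⟩
    · rw [Hom2.comp_assoc, ← Hom2.comp_assoc (θ0 j), Hom2.comp_inv, Hom2.refl_comp]
    · show _ = (yon S).map (b i₀)
      rw [← (h2 i₀ rfl).1, ha]
    · obtain ⟨e, he⟩ := h2 i₀ rfl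
      have := D.natural (𝟙 T) (h1 j.1 j.2) (Hom2.res_of_eq hX e he (θ0 j.1))
      rwa [op_id, CategoryTheory.Functor.map_id] at this
  · choose p hp hpu using fun j : {i : ι // i ≠ i₀} => D.existsUnique (s.θ i₀ j.1)
    choose f hf using fun j => sec_surjective (p j)
    obtain ⟨m, ⟨hm, hm'⟩, hmu⟩ := hu ((yon S).map (s.u i₀)) f fun j => sec_injective (by
      rw [sec_map, hf]
      exact (ULift.ext _ _ ((D.pr₁_eq (hp j)).trans (Category.id_comp _).symm) :
        _ = (sec ((yon S).map (s.u i₀)) : ULift.{u + 1} (T ⟶ U))))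
    refine ⟨m, ⟨hm, fun j => by rw [hm', hf]; exact hp j⟩, fun m' h => hmu m' ⟨h.1, fun j => sec_injective ?_⟩⟩
    rw [hf]
    exact hpu j _ (h.2 j)
  · refine Tup.res_of_base hX i₀ fun j => ?_
    by_cases hj : j = i₀
    · subst hj
      rw [s.θ_refl hX, s'.θ_refl hX]
      exact Hom2.res_refl _ _ ((Category.id_comp _).trans ((yon S).map_injective (h.1.symm.trans h'.1)))
    · exact D.unique (h.2 ⟨j, hj⟩) (h'.2 ⟨j, hj⟩)
  · refine ⟨?_, fun j => ?_⟩
    · rw [Category.assoc, h.1, ← Functor.map_comp, hr.u_eq]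
    · rw [Category.assoc, sec_comp]
      exact D.natural f (h.2 j) (hr i₀ j.1)

variable {i₀ : ι}

/-- changing the index is an endomorphism of the space of families -/
theorem PowSp.exists_relabel (hX : FibCat.IsFibGrpd 𝒳.p) (P : PowSp x ι i₀) :
    ∃ a : (ι → ι) → (P.F ⟶ P.F),
      (∀ (e : ι → ι) {T : Over S} {p : (yon S).obj T ⟶ P.F} {s : Tup x ι T},
        P.Cl p s → P.Cl (p ≫ a e) (s.relabel e)) ∧
      (∀ e e' : ι → ι, a e ≫ a e' = a (e ∘ e')) ∧ a id = 𝟙 P.F := by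
  choose φ hφ using fun (e : ι → ι) (T : Over S) (p : (yon S).obj T ⟶ P.F) =>
    (P.existsUnique ((P.exists_cl p).choose.relabel e)).exists
  have key : ∀ (e : ι → ι) {T : Over S} {p : (yon S).obj T ⟶ P.F} {s : Tup x ι T},
      P.Cl p s → P.Cl (φ e T p) (s.relabel e) := fun e T p s h =>
    P.congr (hφ e T p) ((P.unique (P.exists_cl p).choose_spec h).relabel e)
  choose a ha using fun e : ι → ι => exists_hom_of_points (fun {T} p => φ e T p) (fun {T T'} f p => by
    obtain ⟨s, hs⟩ := P.exists_cl p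
    obtain ⟨s', hs'⟩ := Tup.exists_res hX f s
    exact (P.existsUnique (s'.relabel e)).unique (key e (P.natural f hs hs'))
      (P.natural f (key e hs) (hs'.relabel e)))
  have hcl : ∀ (e : ι → ι) {T : Over S} {p : (yon S).obj T ⟶ P.F} {s : Tup x ι T},
      P.Cl p s → P.Cl (p ≫ a e) (s.relabel e) := fun e T p s h => by
    rw [ha]; exact key e h
  refine ⟨a, hcl, fun e e' => hom_ext_points fun p => ?_, hom_ext_points fun p => ?_⟩
  · obtain ⟨s, hs⟩ := P.exists_cl p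
    exact (P.existsUnique _).unique (Category.assoc p (a e) (a e') ▸ hcl e' (hcl e hs)) (hcl (e ∘ e') hs)
  · obtain ⟨s, hs⟩ := P.exists_cl p
    rw [Category.comp_id]
    exact (P.existsUnique s).unique (hcl id hs) hs

end Groth.Agent.RatChart

end
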