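import Groth.Agent.ArtinAtlas.Charts
import Groth.Agent.AlgSpLib.LocP
import Groth.Agent.AlgStLib.Stacks
import Mathlib.Data.Fintype.Option

/-!
# Finite fibre products of algebraic spaces
-/

set_option autoImplicit false
set_option backward.isDefEq.respectTransparency false
set_option backward.isDefEq.respectTransparency.types false
set_option linter.style.haveILetI false
universe u

noncomputable section

namespace Groth.Agent.RatChart

open CategoryTheory CategoryTheory.Limits AlgebraicGeometry Opposite Groth.Agent.AlgSpLib Groth.Agent.ArtinAtlas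
open _root_.AlgSp

variable {S : Scheme.{u}}

/-- a morphism of sheaves given on the points -/
theorem exists_hom_of_points {F G : Sp S} (φ : ∀ {T : Over S}, ((yon S).obj T ⟶ F) → ((yon S).obj T ⟶ G))
    (nat : ∀ {T T' : Over S} (f : T' ⟶ T) (p : (yon S).obj T ⟶ F),
      φ ((yon S).map f ≫ p) = (yon S).map f ≫ φ p) :
    ∃ a : F ⟶ G, ∀ {T : Over S} (p : (yon S).obj T ⟶ F), p ≫ a = φ p := by
  choose pt hpt using fun (T : Over S) (s : F.obj.obj (op T)) => sec_surjective s
  let a : F ⟶ G := ObjectProperty.homMk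
    { app := fun T => ↾fun s => sec (φ (pt T.unop s))
      naturality := fun T T' f => by
        ext s
        show sec (φ (pt T'.unop (F.obj.map f s))) = G.obj.map f (sec (φ (pt T.unop s)))
        rw [show G.obj.map f (sec (φ (pt T.unop s))) = G.obj.map f.unop.op (sec (φ (pt T.unop s))) from rfl,
          ← sec_comp, ← nat]
        congr 2
        refine sec_injective ?_
        rw [sec_comp, hpt, hpt]
        rfl }
  refine ⟨a, fun {T} p => sec_injective ?_⟩
  rw [sec_map]
  show sec (φ (pt T (sec p))) = _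
  rw [sec_injective (hpt T (sec p))]

/-- morphisms of sheaves are tested on the points -/
theorem hom_ext_points {F G : Sp S} {a b : F ⟶ G}
    (h : ∀ {T : Over S} (p : (yon S).obj T ⟶ F), p ≫ a = p ≫ b) : a = b := by
  refine ObjectProperty.hom_ext _ ?_
  ext T s
  obtain ⟨p, rfl⟩ := sec_surjective s
  exact congrArg sec (h p)

/-- finite fibre products of smooth spaces over a space -/
theorem exists_wide {B : Sp S} (hB : IsAlgSpace B) {J : Type u} [Finite J] (F : J → Sp S) (π : ∀ j, F j ⟶ B)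
    (hF : ∀ j, IsAlgSpace (F j)) (hπ : ∀ j, LocP @Smooth (π j)) :
    ∃ (P : Sp S) (q : P ⟶ B) (pr : ∀ j, P ⟶ F j), IsAlgSpace P ∧ LocP @Smooth q ∧ (∀ j, pr j ≫ π j = q) ∧
      ∀ {Y : Sp S} (b : Y ⟶ B) (f : ∀ j, Y ⟶ F j), (∀ j, f j ≫ π j = b) →
        ∃! m : Y ⟶ P, m ≫ q = b ∧ ∀ j, m ≫ pr j = f j := by
  revert F
  refine Finite.induction_empty_option (P := fun J => ∀ (F : J → Sp S) (π : ∀ j, F j ⟶ B),
    (∀ j, IsAlgSpace (F j)) → (∀ j, LocP @Smooth (π j)) →
    ∃ (P : Sp S) (q : P ⟶ B) (pr : ∀ j, P ⟶ F j), IsAlgSpace P ∧ LocP @Smooth q ∧ (∀ j, pr j ≫ π j = q) ∧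
      ∀ {Y : Sp S} (b : Y ⟶ B) (f : ∀ j, Y ⟶ F j), (∀ j, f j ≫ π j = b) →
        ∃! m : Y ⟶ P, m ≫ q = b ∧ ∀ j, m ≫ pr j = f j) ?_ ?_ ?_ J
  · intro J' J e ih F π hF hπ
    obtain ⟨P, q, pr, hP, hq, hw, hu⟩ := ih (fun j => F (e j)) (fun j => π (e j)) (fun j => hF _) (fun j => hπ _)
    have hpr : ∀ j, ∃ pj : P ⟶ F j, pj ≫ π j = q ∧ ∀ i (h : e i = j), pj = pr i ≫ eqToHom (by rw [h]) := by
      intro j
      obtain ⟨i, rfl⟩ := e.surjective j
      refine ⟨pr i, hw i, fun i' h => ?_⟩
      obtain rfl := e.injective h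
      simp
    choose pr' h1 h2 using hpr
    refine ⟨P, q, pr', hP, hq, h1, fun {Y} b f hf => ?_⟩
    obtain ⟨m, ⟨hm, hm'⟩, hum⟩ := hu b (fun i => f (e i)) fun i => hf _
    refine ⟨m, ⟨hm, fun j => ?_⟩, fun m' h => hum m' ⟨h.1, fun i => ?_⟩⟩
    · obtain ⟨i, rfl⟩ := e.surjective j
      rw [h2 _ i rfl, eqToHom_refl, Category.comp_id]
      exact hm' i
    · show _ = f (e i)
      rw [← h.2 (e i), h2 _ i rfl, eqToHom_refl, Category.comp_id]
  · intro F π hF hπ
    refine ⟨B, 𝟙 B, fun j => j.elim, hB, ?_, fun j => j.elim, fun {Y} b f _ => ⟨b, ⟨Category.comp_id b,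
      fun j => j.elim⟩, fun m h => (Category.comp_id m).symm.trans h.1⟩⟩
    intro V W a b h ha hb comm
    exact etST_smooth.of_etale _
      ((isEtaleMor_iff_locP hB).1 (fun _ φ hφ => by rw [Category.comp_id]; exact hφ) a b h ha hb comm)
  · intro J _ ih F π hF hπ
    obtain ⟨P, q, pr, hP, hq, hw, hu⟩ := ih (fun j => F (some j)) (fun j => π (some j)) (fun j => hF _)
      (fun j => hπ _)
    have sq := IsPullback.of_hasPullback q (π none)
    have hP' := isAlgSpace_of_isPullback_space hB hP (hF none) sq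
    refine ⟨_, pullback.fst q (π none) ≫ q, fun j => match j with
      | none => pullback.snd q (π none)
      | some j => pullback.fst q (π none) ≫ pr j, hP', ?_, ?_, fun {Y} b f hf => ?_⟩
    · exact AlgStLib.cls_smooth.comp hP' hP hB _ _
        (locP_baseChange etST_smooth (hF none) hB hP' hP sq.flip (hπ none)) hq
    · rintro (_ | j)
      · exact pullback.condition.symm
      · show (pullback.fst q (π none) ≫ pr j) ≫ π (some j) = _
        rw [Category.assoc, hw]
    · obtain ⟨m, ⟨hm, hm'⟩, hum⟩ := hu b (fun j => f (some j)) fun j => hf _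
      refine ⟨pullback.lift m (f none) (by rw [hm, hf]), ⟨by rw [pullback.lift_fst_assoc, hm], ?_⟩, ?_⟩
      · rintro (_ | j)
        · exact pullback.lift_snd _ _ _
        · exact (pullback.lift_fst_assoc _ _ _ _).trans (hm' j)
      · rintro m' ⟨h₁, h₂⟩
        refine pullback.hom_ext ?_ ?_
        · rw [pullback.lift_fst]
          refine hum _ ⟨by rw [Category.assoc, h₁], fun j => ?_⟩
          rw [Category.assoc]
          exact h₂ (some j)
        · rw [pullback.lift_snd]
          exact h₂ none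

end Groth.Agent.RatChart

end
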