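import Groth.Agent.RatChart.Main
import Groth.Agent.ArtinAtlas.GerbePoint
import Groth.Prelude.Def_AlgSt3

/-!
# Quotient points of smooth stacks over henselian local rings lift
-/

set_option autoImplicit false
set_option backward.isDefEq.respectTransparency false
set_option backward.isDefEq.respectTransparency.types false
set_option linter.style.haveILetI false
universe u

noncomputable section

namespace Groth.Agent.RatChart

open CategoryTheory CategoryTheory.Limits AlgebraicGeometry Opposite Groth.Agent.AlgSpLib Groth.Agent.ArtinAtlas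
  Groth.Agent.FibCatRep Groth.Agent.FibCat2Misc Groth.Agent.StkBasic Groth.Agent.AlgStLib
open _root_.AlgSp _root_.AlgSt

/-- the base of a smooth chart of the terminal stack is smooth -/
theorem smooth_hom_of_toSelf {X : Scheme.{u}} {V : Over X}
    (y : FibCat.overCat V ⥤ᵇ FibCat.selfOver (Over X)) (hy : RepByAlgSpWith (LocP @Smooth) y) : Smooth V.hom := by
  obtain rfl : y = FibCat.toSelf (FibCat.overCat V) := by
    obtain ⟨F, hF⟩ := y
    obtain rfl : F = (FibCat.overCat V).p := hF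
    rfl
  let B := base X
  let tV : V ⟶ B := Over.homMk V.hom (Category.comp_id _)
  have hy' : RepByAlgSpWith (LocP @Smooth) (FibCat.toSelf (Stk.ofPsh ((pyon _).obj V))) := by
    have := (repWith_overCat_iff _ V _).1 hy
    rwa [AlgStLib.comp_toSelf] at this
  exact prop_of_repWith_yon etST_smooth cls_smooth
    ((repWith_iff_of_equiv _ (FibCat.toSelf (Stk.ofPsh ((pyon _).obj V))) (Stk.ofPshMap ((yon _).map tV).hom)
      (BasedFunctor.id _) (FibCat.toSelf (Stk.ofPsh ((pyon _).obj B))) isEquivOver_id isEquivOver_toSelf_base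
      (eqToIso (AlgStLib.comp_toSelf _))).1 hy') (h := tV)

/-- points over quotients of smooth stacks over henselian local rings lift -/
theorem exists_point_lift (R : Type u) [CommRing R] [HenselianLocalRing R]
    (𝒵 : AlgSt.Cat (Spec (CommRingCat.of R))) (h𝒵 : IsAlgStack Scheme.fppfPrecoverage 𝒵)
    (hsm : LocQ (LocP @Smooth) (FibCat.toSelf 𝒵)) (a : Ideal R) (ha : a ≠ ⊤)
    (z₀ : FibCat.overCat (Over.mk (Spec.map (CommRingCat.ofHom (Ideal.Quotient.mk a)))) ⥤ᵇ 𝒵) :
    ∃ z : FibCat.overCat (Over.mk (𝟙 (Spec (CommRingCat.of R)))) ⥤ᵇ 𝒵,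
      Nonempty (BasedFunctor.comp (AlgSt.overMap (Over.homMk (Spec.map (CommRingCat.ofHom (Ideal.Quotient.mk a)))
        (Category.comp_id _) : Over.mk (Spec.map (CommRingCat.ofHom (Ideal.Quotient.mk a))) ⟶ Over.mk (𝟙 _))) z ≅ z₀) := by
  obtain ⟨U, V, x, y, h, -, hx, hxs, hy, hh⟩ := hsm
  haveI : Smooth V.hom := smooth_hom_of_toSelf y hy
  haveI : Smooth h.left := (locP_yon_iff etST_smooth h).1 hh
  haveI : Smooth U.hom := by
    rw [← Over.w h]
    infer_instance
  haveI : Nontrivial (R ⧸ a) := Ideal.Quotient.nontrivial_iff.2 ha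
  haveI : IsLocalRing (R ⧸ a) := .of_surjective' (Ideal.Quotient.mk a) Ideal.Quotient.mk_surjective
  haveI : HenselianLocalRing (R ⧸ a) := Groth.Agent.Hensel.henselianLocalRing_finite R (R ⧸ a)
  obtain ⟨Z, hZ, c, g, hc, ⟨θ⟩⟩ := exists_henselian_chart h𝒵 (R ⧸ a) _ z₀
  haveI := hZ
  haveI : Smooth Z.hom := ArtinAtlas.smooth_hom_of_chart h𝒵.isStack.1 hc
    (AlgStLib.repWith_mono hx fun _ _ m _ hm => locP_mono (fun _ _ r hr => by
      haveI : Smooth r := hr
      exact ⟨inferInstance, inferInstance⟩) m hm) hxs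
  obtain ⟨s, hs₁, hs₂⟩ := HenselChart.exists_section_lift R Z.hom a ha g.left (Over.w g)
  refine ⟨BasedFunctor.comp (AlgSt.overMap (Over.homMk s hs₁ : Over.mk (𝟙 _) ⟶ Z)) c, ?_⟩
  let j : Over.mk (Spec.map (CommRingCat.ofHom (Ideal.Quotient.mk a))) ⟶ Over.mk (𝟙 (Spec (CommRingCat.of R))) :=
    Over.homMk (Spec.map (CommRingCat.ofHom (Ideal.Quotient.mk a))) (Category.comp_id _)
  have hj : j ≫ (Over.homMk s hs₁ : Over.mk (𝟙 _) ⟶ Z) = g := Over.OverMorphism.ext hs₂
  exact nonempty_iso_of_hom2 h𝒵.isStack.1 (Hom2.toMap (θ.cast hj.symm rfl))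

end Groth.Agent.RatChart

end
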